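import Groth.Agent.AlgGrp.K412.MachA
import Groth.Agent.Ega43.DvrScheme
import Groth.Agent.Sga3.H806.ApproxProp

/-!
# Subgroups of large dimension: stability under specialization
-/

set_option autoImplicit false
universe u

open CategoryTheory CategoryTheory.Limits AlgebraicGeometry MonObj MonoidalCategory
  CartesianMonoidalCategory GrpObj IsLocalRing

namespace K412.Machine

open Groth.Agent Stage Tower Books.AlgPts Sga7.H116.L1
open Groth.Agent.Sga3B.RedIso (und)

variable {P : Prp.{u}} {aff : Prop} {n : ℕ}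

theorem q_iso_iff {K : Type u} [Field K] {G G' : Over (Spec (CommRingCat.of K))} [GrpObj G] [GrpObj G']
    (e : Grp.mk G ≅ Grp.mk G') : Q P aff n K G ↔ Q P aff n K G' :=
  ⟨fun h => h.iso e, fun h => h.iso e.symm⟩

/-- A point with values in an algebraically closed field factors through the geometric point. -/
theorem exists_geomPt {S : Scheme.{u}} {K : Type u} [Field K] [IsAlgClosed K]
    (x : Spec (CommRingCat.of K) ⟶ S) (s : S) (hs : x (closedPoint K) = s) :
    ∃ θ : AlgebraicClosure (S.residueField s) →+* K, sp θ ≫ Red.geomPt s = x := by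
  subst hs
  obtain ⟨b, hb⟩ : ∃ b : S.residueField (x (closedPoint K)) ⟶ CommRingCat.of K,
      Spec.map b ≫ S.fromSpecResidueField _ = x :=
    ⟨_, Scheme.descResidueField_stalkClosedPointTo_fromSpecResidueField K S x⟩
  let _ : Algebra (S.residueField (x (closedPoint K))) K := b.hom.toAlgebra
  let θ : AlgebraicClosure (S.residueField (x (closedPoint K))) →ₐ[S.residueField (x (closedPoint K))] K :=
    IsAlgClosed.lift
  refine ⟨θ.toRingHom, ?_⟩
  have h1 : θ.toRingHom.comp (algebraMap (S.residueField (x (closedPoint K))) _) = b.hom :=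
    θ.comp_algebraMap
  change sp θ.toRingHom ≫ sp (algebraMap _ _) ≫ _ = x
  rw [← Category.assoc, sp_comp, h1]
  exact hb

theorem geomPt_apply {S : Scheme.{u}} (s : S)
    (y : Spec (CommRingCat.of (AlgebraicClosure (S.residueField s)))) : Red.geomPt s y = s := by
  rw [Scheme.Hom.comp_apply]
  exact Scheme.fromSpecResidueField_apply _ _

/-- The condition depends only on the point below. -/
theorem q_pt_congr (hP : Good P aff) {S : Scheme.{u}} (G : Over S) [GrpObj G] [LocallyOfFiniteType G.hom]
    [QuasiCompact G.hom] {K k : Type u} [Field K] [IsAlgClosed K] [Field k] [IsAlgClosed k]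
    (x : Spec (CommRingCat.of K) ⟶ S) (y : Spec (CommRingCat.of k) ⟶ S)
    (h : x (closedPoint K) = y (closedPoint k)) :
    Q P aff n K (Red.bc x G) ↔ Q P aff n k (Red.bc y G) := by
  have key : ∀ {F : Type u} [Field F] [IsAlgClosed F] (z : Spec (CommRingCat.of F) ⟶ S) (s : S),
      z (closedPoint F) = s → (Q P aff n F (Red.bc z G) ↔
        Q P aff n (AlgebraicClosure (S.residueField s)) (Red.geomFibre s G)) := by
    intro F _ _ z s hs
    obtain ⟨θ, hθ⟩ := exists_geomPt z s hs
    have h1 : LocallyOfFiniteType (Red.geomFibre s G).hom :=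
      inferInstanceAs (LocallyOfFiniteType (pullback.snd G.hom (Red.geomPt s)))
    have h2 : QuasiCompact (Red.geomFibre s G).hom :=
      inferInstanceAs (QuasiCompact (pullback.snd G.hom (Red.geomPt s)))
    rw [q_iso_iff (tower hθ G)]
    exact q_bc_iff hP θ (Red.geomFibre s G)
  exact (key x _ rfl).trans (key y _ h.symm).symm

/-- Specialization over a discrete valuation ring, for a subgroup of the generic fibre. -/
theorem q_dvr (hP : Good P aff) (R L : Type u) [CommRing R] [IsDomain R] [IsDiscreteValuationRing R] [Field L]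
    [Algebra R L] [IsFractionRing R L] (G : Over (Spec (CommRingCat.of R))) [GrpObj G]
    [LocallyOfFiniteType G.hom] (A : Over (Spec (CommRingCat.of L))) [GrpObj A]
    (a : A ⟶ Red.bc (gen R L) G) [IsMonHom a] [IsClosedImmersion a.left] [ConnectedSpace A.left]
    (haff : aff → IsAffine A.left) {K : Type u} [Field K] [IsAlgClosed K] (lam : L →+* K)
    (hsm : Smooth (Red.bc (sp lam) A).hom) (hconn : ConnectedSpace ↥(Red.bc (sp lam) A).left)
    (hPA : P K (Red.bc (sp lam) A)) (hn : (n : WithBot ℕ∞) ≤ topologicalKrullDim ↥(Red.bc (sp lam) A).left)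
    {k : Type u} [Field k] [IsAlgClosed k] (ψ : R →+* k) : Q P aff n k (Red.bc (sp ψ) G) := by
  obtain ⟨N, _, i, e, hi, him, hfl, hlfp, hqc, hsep, -, hNa, -⟩ := Clos.exists_connected R L G A a
  let e2 : Grp.mk (Red.bc (sp lam) A) ≅ Grp.mk (Red.bc (sp (lam.comp (algebraMap R L))) N) :=
    Sga3B.BcIso.bcMapIso (sp lam) e ≪≫ (tower (sp_comp (algebraMap R L) lam) N).symm
  have h1 : Q P aff n k (Red.bc (sp ψ) N) := by
    refine q_of_domain hP (lam.comp (algebraMap R L)) ψ
      (lam.injective.comp (IsFractionRing.injective R L)) N (fun h => hNa (haff h)) (smooth_iso e2 hsm)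
      (connectedSpace_iso e2 hconn) (hP.iso e2 hPA) ?_
    rwa [← dim_iso e2]
  have h2 : LocallyOfFiniteType (Red.bc (sp ψ) G).hom :=
    inferInstanceAs (LocallyOfFiniteType (pullback.snd G.hom (sp ψ)))
  have h3 : LocallyOfFiniteType (Red.bc (sp ψ) N).hom :=
    inferInstanceAs (LocallyOfFiniteType (pullback.snd N.hom (sp ψ)))
  have h4 : QuasiCompact (Red.bc (sp ψ) N).hom :=
    inferInstanceAs (QuasiCompact (pullback.snd N.hom (sp ψ)))
  have h5 : IsLocallyNoetherian (Red.bc (sp ψ) N).left :=
    LocallyOfFiniteType.isLocallyNoetherian (Red.bc (sp ψ) N).hom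
  have h6 : CompactSpace (Red.bc (sp ψ) N).left := QuasiCompact.compactSpace_of_compactSpace (Red.bc (sp ψ) N).hom
  have h7 : IsNoetherian (Red.bc (sp ψ) N).left := ⟨⟩
  have h8 : Mono i := (Over.forget _).mono_of_mono_map (inferInstanceAs (Mono i.left))
  have h9 : Mono ((Over.pullback (sp ψ)).map i) := inferInstance
  have h10 : QuasiCompact ((Over.pullback (sp ψ)).map i).left := inferInstance
  have h11 : IsClosedImmersion ((Over.pullback (sp ψ)).map i).left :=
    Groth.Agent.S3036.result k _ _ ((Over.pullback (sp ψ)).map i)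
  exact h1.mono ((Over.pullback (sp ψ)).map i)

/-- The base change along equal composites. -/
noncomputable def sqIso {S T T' U : Scheme.{u}} (a : U ⟶ T) (b : T ⟶ S) (a' : U ⟶ T') (b' : T' ⟶ S)
    (h : a ≫ b = a' ≫ b') (G : Over S) [GrpObj G] :
    Grp.mk (Red.bc a (Red.bc b G)) ≅ Grp.mk (Red.bc a' (Red.bc b' G)) :=
  (tower h G).symm ≪≫ tower rfl G

theorem q_specializes_aux (hP : Good P aff) {Y : Scheme.{u}} (G : Over Y) [GrpObj G]
    [LocallyOfFiniteType G.hom] [QuasiCompact G.hom] {y' y : Y}
    [IsNoetherianRing (Y.presheaf.stalk y)] (h : y' ⤳ y) (hne : y' ≠ y) (L : Type u) [Field L]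
    (β : (Y.residueField y') →+* L) (hβ : β.FiniteType) (N : Over (Spec (CommRingCat.of L))) [GrpObj N]
    (ν : N ⟶ Red.bc (sp β) (Red.bc (S' := Spec (CommRingCat.of (Y.residueField y'))) (Y.fromSpecResidueField y') G))
    [IsMonHom ν] [IsClosedImmersion ν.left]
    [ConnectedSpace N.left] (haff : aff → IsAffine N.left) {K : Type u} [Field K] [IsAlgClosed K] (lam : L →+* K)
    (hsm : Smooth (Red.bc (sp lam) N).hom) (hconn : ConnectedSpace ↥(Red.bc (sp lam) N).left)
    (hPA : P K (Red.bc (sp lam) N)) (hn : (n : WithBot ℕ∞) ≤ topologicalKrullDim ↥(Red.bc (sp lam) N).left) :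
    Q P aff n (AlgebraicClosure (Y.residueField y)) (Red.geomFibre y G) := by
  obtain ⟨R, _, _, _, _, _, g, hg1, hg2⟩ := Ega43.DvrScheme.exists_dvr_of_specializes h hne L
    (CommRingCat.ofHom β) (RingHom.FiniteType.essFiniteType hβ)
  have i1 : LocallyOfFiniteType (Red.bc g G).hom :=
    inferInstanceAs (LocallyOfFiniteType (pullback.snd G.hom g))
  let e : Grp.mk (Red.bc (sp β) (Red.bc (S' := Spec (CommRingCat.of (Y.residueField y')))
      (Y.fromSpecResidueField y') G)) ≅ Grp.mk (Red.bc (gen R L) (Red.bc g G)) :=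
    sqIso _ _ _ _ hg2.symm G
  have i2 : IsIso (und e).hom.left := inferInstance
  have i3 : IsClosedImmersion (ν ≫ (und e).hom).left := by rw [Over.comp_left]; infer_instance
  let k := AlgebraicClosure (IsLocalRing.ResidueField R)
  let ψ : R →+* k := (algebraMap _ k).comp (IsLocalRing.residue R)
  have h1 : Q P aff n k (Red.bc (sp ψ) (Red.bc g G)) :=
    q_dvr hP R L (Red.bc g G) N (ν ≫ (und e).hom) haff lam hsm hconn hPA hn ψ
  have h2 : Q P aff n k (Red.bc (sp ψ ≫ g) G) := h1.iso (tower rfl G).symm
  refine (q_pt_congr hP G (sp ψ ≫ g) (Red.geomPt y) ?_).mp h2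
  have h3 : (sp ψ ≫ g) (closedPoint k) = y := by
    rw [Scheme.Hom.comp_apply, ← hg1]
    congr 1
    have h4 : IsLocalHom ψ := by
      have h5 : IsLocalHom (IsLocalRing.residue R) := inferInstance
      have h6 : IsLocalHom (algebraMap (IsLocalRing.ResidueField R) k) := inferInstance
      exact RingHom.isLocalHom_comp _ _
    exact IsLocalRing.comap_closedPoint ψ
  rw [h3, geomPt_apply]

/-- Specialization in locally Noetherian schemes. -/
theorem q_specializes_noeth (hP : Good P aff) {Y : Scheme.{u}} (G : Over Y) [GrpObj G]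
    [LocallyOfFinitePresentation G.hom] [QuasiCompact G.hom] [QuasiSeparated G.hom] {y' y : Y}
    [IsNoetherianRing (Y.presheaf.stalk y)] (h : y' ⤳ y)
    (hQ : Q P aff n (AlgebraicClosure (Y.residueField y')) (Red.geomFibre y' G)) :
    Q P aff n (AlgebraicClosure (Y.residueField y)) (Red.geomFibre y G) := by
  by_cases hne : y' = y
  · subst hne; exact hQ
  let κ : Type u := Y.residueField y'
  let K := AlgebraicClosure κ
  let x : Spec (CommRingCat.of κ) ⟶ Y := Y.fromSpecResidueField y'
  let G1 : Over (Spec (CommRingCat.of κ)) := Red.bc x G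
  have hQ1 : Q P aff n K (Red.bc (sp (algebraMap κ K)) G1) :=
    hQ.iso (tower (q := sp (algebraMap κ K)) (g := x) rfl G)
  have h1 : LocallyOfFinitePresentation G1.hom :=
    inferInstanceAs (LocallyOfFinitePresentation (pullback.snd G.hom x))
  have h2 : QuasiCompact G1.hom := inferInstanceAs (QuasiCompact (pullback.snd G.hom x))
  have h3 : QuasiSeparated G1.hom := inferInstanceAs (QuasiSeparated (pullback.snd G.hom x))
  obtain ⟨H, _, i, hi, hcl, hsm, ha, hc, hPH, hn⟩ := hQ1
  have hlft : LocallyOfFiniteType (Red.bc (sp (algebraMap κ K)) G1).hom :=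
    inferInstanceAs (LocallyOfFiniteType (pullback.snd G1.hom (sp (algebraMap κ K))))
  have hln : IsLocallyNoetherian (Red.bc (sp (algebraMap κ K)) G1).left :=
    LocallyOfFiniteType.isLocallyNoetherian (Red.bc (sp (algebraMap κ K)) G1).hom
  have hilfp : LocallyOfFinitePresentation i.left := inferInstance
  obtain ⟨B, hB, N, hN, ν, e, hν, hνcl, hfl, hNlfp, hqc, haff, -⟩ := Model.exists_model G1 H i
  have hBf : IsField B := Subalgebra.isField_of_algebraic B
  have hft : Algebra.FiniteType κ B := B.fg_iff_finiteType.mp hB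
  have hcN : ConnectedSpace N.left := by
    have h5 : IsIso (und e).hom.left := inferInstance
    have h6 : Surjective (pullback.fst N.hom (sp (algebraMap B K))) := by
      have h8 : Subsingleton (Spec (CommRingCat.of B)) := by
        let _ := hBf.toField
        exact inferInstanceAs (Subsingleton (PrimeSpectrum B))
      have h7 : Surjective (sp (algebraMap B K)) := ⟨fun p => ⟨closedPoint K, Subsingleton.elim _ _⟩⟩
      infer_instance
    have h9 : Function.Surjective ((und e).hom.left ≫ pullback.fst N.hom (sp (algebraMap B K))) := by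
      have h10 : Surjective ((und e).hom.left ≫ pullback.fst N.hom (sp (algebraMap B K))) := inferInstance
      exact h10.surj
    exact h9.connectedSpace ((und e).hom.left ≫ pullback.fst N.hom (sp (algebraMap B K))).continuous
  let instF : Field B := hBf.toField
  refine q_specializes_aux hP G h hne B (algebraMap κ B) ?_ N ν (fun h => haff (ha h)) (algebraMap B K)
    (smooth_iso e hsm) (connectedSpace_iso e hc) (hP.iso e hPH) ?_
  · have : (algebraMap κ B).toAlgebra = (inferInstance : Algebra κ B) := Algebra.algebra_ext _ _ fun _ => rfl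
    rw [RingHom.FiniteType, this]
    exact hft
  · rwa [← dim_iso e]

/-- **Stability under specialization.** -/
theorem q_specializes (hP : Good P aff) {S : Scheme.{u}} (G : Over S) [GrpObj G]
    [LocallyOfFinitePresentation G.hom] [QuasiCompact G.hom] [QuasiSeparated G.hom] {s s' : S} (h : s ⤳ s')
    (hQ : Q P aff n (AlgebraicClosure (S.residueField s)) (Red.geomFibre s G)) :
    Q P aff n (AlgebraicClosure (S.residueField s')) (Red.geomFibre s' G) := by
  obtain ⟨W, hW, hs', -⟩ := exists_isAffineOpen_mem_and_subset (X := S) (x := s') (U := ⊤) trivial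
  have hs : s ∈ W := h.mem_open W.isOpen hs'
  let R : CommRingCat.{u} := Γ(S, W)
  let j : Spec R ⟶ S := hW.fromSpec
  have hj : Set.range j = W := hW.range_fromSpec
  obtain ⟨v, hv⟩ : s ∈ Set.range j := by rw [hj]; exact hs
  obtain ⟨v', hv'⟩ : s' ∈ Set.range j := by rw [hj]; exact hs'
  have hvv : v ⤳ v' := by
    rw [← j.isOpenEmbedding.isInducing.specializes_iff, hv, hv']
    exact h
  let G1 : Over (Spec (CommRingCat.of R)) := Red.bc (S' := Spec (CommRingCat.of R)) j G
  have h1 : LocallyOfFinitePresentation G1.hom :=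
    inferInstanceAs (LocallyOfFinitePresentation (pullback.snd G.hom j))
  have h2 : QuasiCompact G1.hom := inferInstanceAs (QuasiCompact (pullback.snd G.hom j))
  have h3 : QuasiSeparated G1.hom := inferInstanceAs (QuasiSeparated (pullback.snd G.hom j))
  obtain ⟨R₀, G0, _, hR₀, i1, i2, i3, ⟨e⟩⟩ := Sga3.H806.ApproxProp.exists_noetherian G1
  let q : Spec (CommRingCat.of R) ⟶ Spec (CommRingCat.of R₀) := Spec.map (CommRingCat.ofHom R₀.val.toRingHom)
  have hnoeth : IsNoetherianRing R₀ := by
    have : Algebra.FiniteType ℤ R₀ := R₀.fg_iff_finiteType.mp hR₀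
    exact Algebra.FiniteType.isNoetherianRing ℤ R₀
  have hln : IsLocallyNoetherian (Spec (CommRingCat.of R₀)) := inferInstance
  have key : ∀ (t : S) (w : Spec (CommRingCat.of R)), j w = t →
      (Q P aff n (AlgebraicClosure (S.residueField t)) (Red.geomFibre t G) ↔
        Q P aff n _ (Red.geomFibre (q w) G0)) := by
    intro t w ht
    rw [q_pt_congr hP G (Red.geomPt t) (Red.geomPt w ≫ j) (by
        rw [geomPt_apply, Scheme.Hom.comp_apply, geomPt_apply, ht]),
      q_iso_iff (tower (rfl : Red.geomPt w ≫ j = Red.geomPt w ≫ j) G),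
      q_iso_iff (Sga3B.BcIso.bcMapIso (Red.geomPt w) e).symm,
      q_iso_iff (tower (rfl : Red.geomPt w ≫ q = Red.geomPt w ≫ q) G0).symm]
    exact q_pt_congr hP G0 _ _ (by rw [geomPt_apply, Scheme.Hom.comp_apply, geomPt_apply])
  rw [key s v hv] at hQ
  rw [key s' v' hv']
  exact q_specializes_noeth hP G0 (hvv.map q.continuous) hQ

end K412.Machine
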