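import Groth.Agent.Sga3B.DsBc

/-!
# Base change in towers, for group schemes
-/

set_option autoImplicit false
universe u

open CategoryTheory CategoryTheory.Limits AlgebraicGeometry MonObj MonoidalCategory
  CartesianMonoidalCategory GrpObj

namespace K412.Tower

open Groth.Agent.Sga3B Groth.Agent.Sga3B.RedIso Groth.Agent.Sga3B.BcNat Groth.Agent.Sga3B.DsBc

/-- The morphism of spectra of a homomorphism of rings. -/
noncomputable abbrev sp {A B : Type u} [CommRing A] [CommRing B] (φ : A →+* B) :
    Spec (CommRingCat.of B) ⟶ Spec (CommRingCat.of A) := Spec.map (CommRingCat.ofHom φ)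

theorem sp_comp {A B C : Type u} [CommRing A] [CommRing B] [CommRing C] (φ : A →+* B) (ψ : B →+* C) :
    sp ψ ≫ sp φ = sp (ψ.comp φ) := by
  rw [← Spec.map_comp, ← CommRingCat.ofHom_comp]

theorem sp_id {A : Type u} [CommRing A] : sp (RingHom.id A) = 𝟙 _ := Spec.map_id _

instance dominant_sp {A B : Type u} [CommRing A] [CommRing B] (f : A →+* B) [hf : Fact (Function.Injective f)] :
    IsSchemeTheoreticallyDominant (Spec.map (CommRingCat.ofHom f)) := by
  rw [isSchemeTheoreticallyDominant_iff]
  refine Scheme.IdealSheafData.ext_of_isAffine ?_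
  rw [Scheme.Hom.ker_apply]
  simp only [Scheme.IdealSheafData.ideal_bot, Pi.bot_apply]
  rw [← RingHom.injective_iff_ker_eq_bot]
  have : (Spec.map (CommRingCat.ofHom f)).appTop =
      (Scheme.ΓSpecIso _).hom ≫ CommRingCat.ofHom f ≫ (Scheme.ΓSpecIso _).inv := by
    rw [← Category.assoc, Iso.eq_comp_inv]
    exact Scheme.ΓSpecIso_naturality _
  change Function.Injective (Spec.map (CommRingCat.ofHom f)).appTop.hom
  rw [this]
  simp only [CommRingCat.hom_comp, RingHom.coe_comp]
  refine Function.Injective.comp (Function.Injective.comp ?_ hf.out) ?_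
  · exact (ConcreteCategory.bijective_of_isIso (Scheme.ΓSpecIso (CommRingCat.of B)).inv).1
  · exact (ConcreteCategory.bijective_of_isIso (Scheme.ΓSpecIso (CommRingCat.of A)).hom).1

variable {S S' S'' : Scheme.{u}}

/-- Transitivity of base change, for group schemes. -/
noncomputable def tower {q : S'' ⟶ S'} {g : S' ⟶ S} {h : S'' ⟶ S} (hh : q ≫ g = h) (G : Over S) [GrpObj G] :
    Grp.mk (Red.bc h G) ≅ Grp.mk (Red.bc q (Red.bc g G)) :=
  BcIso.bcCongrIso hh.symm G ≪≫ BcIso.bcCompIso q g G

theorem tower_fst {q : S'' ⟶ S'} {g : S' ⟶ S} {h : S'' ⟶ S} (hh : q ≫ g = h) (G : Over S) [GrpObj G] :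
    (und (tower hh G)).hom.left ≫ pullback.fst (Red.bc g G).hom q ≫ pullback.fst G.hom g =
      pullback.fst G.hom h := by
  have h1 : (und (tower hh G)).hom = (und (BcIso.bcCongrIso hh.symm G)).hom ≫ (und (BcIso.bcCompIso q g G)).hom :=
    rfl
  rw [h1, Over.comp_left, Category.assoc, bcComp_fst, bcCongr_fst]

theorem tower_nat {q : S'' ⟶ S'} {g : S' ⟶ S} {h : S'' ⟶ S} (hh : q ≫ g = h) {G H : Over S} [GrpObj G] [GrpObj H]
    (i : G ⟶ H) : (Over.pullback h).map i ≫ (und (tower hh H)).hom =
      (und (tower hh G)).hom ≫ (Over.pullback q).map ((Over.pullback g).map i) := by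
  have h1 : ∀ (G : Over S) [GrpObj G], (und (tower hh G)).hom =
    (und (BcIso.bcCongrIso hh.symm G)).hom ≫ (und (BcIso.bcCompIso q g G)).hom := fun G _ => rfl
  rw [h1, h1, Category.assoc, comp_nat, reassoc_of% congr_nat hh.symm i]

instance isMonHom_und_hom {G H : Over S} [GrpObj G] [GrpObj H] (e : Grp.mk G ≅ Grp.mk H) :
    IsMonHom (und e).hom := e.hom.hom.isMonHom_hom

instance isMonHom_und_inv {G H : Over S} [GrpObj G] [GrpObj H] (e : Grp.mk G ≅ Grp.mk H) :
    IsMonHom (und e).inv := e.inv.hom.isMonHom_hom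

/-- An isomorphism which is a homomorphism, as an isomorphism of groups. -/
noncomputable def grpIso {G H : Over S} [GrpObj G] [GrpObj H] (e : G ≅ H) (h : IsMonHom e.hom) :
    Grp.mk G ≅ Grp.mk H := Grp.mkIso e h.one_hom h.mul_hom

theorem und_grpIso {G H : Over S} [GrpObj G] [GrpObj H] (e : G ≅ H) (h : IsMonHom e.hom) :
    (und (grpIso e h)).hom = e.hom := rfl

theorem bc_mono (g : S' ⟶ S) {G H : Over S} (i : G ⟶ H) [IsClosedImmersion i.left] :
    IsClosedImmersion ((Over.pullback g).map i).left := by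
  have h3 : ((Over.pullback g).map i).left ≫ pullback.fst H.hom g = pullback.fst G.hom g ≫ i.left :=
    pullback.lift_fst _ _ _
  have h4 : ((Over.pullback g).map i).left ≫ pullback.snd H.hom g = pullback.snd G.hom g :=
    pullback.lift_snd _ _ _
  have h6 := (IsPullback.of_hasPullback G.hom g).flip
  have h7 := (IsPullback.of_hasPullback H.hom g).flip
  have h8 : IsPullback ((Over.pullback g).map i).left (pullback.fst G.hom g) (pullback.fst H.hom g) i.left := by
    refine IsPullback.of_right ?_ h3 h7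
    rw [h4, Over.w i]
    exact h6
  exact MorphismProperty.of_isPullback h8.flip inferInstance

end K412.Tower
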