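import Groth.Agent.AlgGrp.K412.Machine

/-!
# Subgroups of large dimension: invariance under extensions of algebraically closed fields
-/

set_option autoImplicit false
universe u

open CategoryTheory CategoryTheory.Limits AlgebraicGeometry MonObj MonoidalCategory
  CartesianMonoidalCategory GrpObj

namespace K412.Machine

open Groth.Agent Stage Tower Books.AlgPts
open Groth.Agent.Sga3B.RedIso (und)

variable {P : Prp.{u}} {aff : Prop} {n : ℕ}

theorem dim_iso {S : Scheme.{u}} {G H : Over S} [GrpObj G] [GrpObj H] (e : Grp.mk G ≅ Grp.mk H) :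
    topologicalKrullDim ↥G.left = topologicalKrullDim ↥H.left := by
  have h1 : IsIso (und e).hom.left := inferInstance
  exact IsHomeomorph.topologicalKrullDim_eq _ (und e).hom.left.homeomorph.isHomeomorph

theorem Good.iso (hP : Good P aff) {K : Type u} [Field K] [IsAlgClosed K]
    {G H : Over (Spec (CommRingCat.of K))} [GrpObj G] [GrpObj H] (e : Grp.mk G ≅ Grp.mk H) (h : P K G) :
    P K H := by
  have h1 : IsIso (und e).inv.left := inferInstance
  exact hP.sub K G H (und e).inv h

theorem smooth_iso {S : Scheme.{u}} {G H : Over S} [GrpObj G] [GrpObj H] (e : Grp.mk G ≅ Grp.mk H)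
    (h : Smooth G.hom) : Smooth H.hom := by
  have h1 : IsIso (und e).inv.left := inferInstance
  rw [← Over.w (und e).inv]
  infer_instance

theorem connectedSpace_iso {S : Scheme.{u}} {G H : Over S} [GrpObj G] [GrpObj H] (e : Grp.mk G ≅ Grp.mk H)
    (h : ConnectedSpace ↥G.left) : ConnectedSpace ↥H.left := by
  have h1 : IsIso (und e).hom.left := inferInstance
  exact (und e).hom.left.homeomorph.surjective.connectedSpace (und e).hom.left.homeomorph.continuous

/-- The base change along the identity of a base change. -/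
noncomputable def towerId {S T : Scheme.{u}} (f : T ⟶ S) (g : S ⟶ T) (h : g ≫ f = 𝟙 S) (G : Over S) [GrpObj G] :
    Grp.mk (Red.bc g (Red.bc f G)) ≅ Grp.mk G :=
  (tower h G).symm ≪≫ Sga3B.BcIso.bcIdIso G

/-- Descent of large subgroups along an extension of algebraically closed fields. -/
theorem q_down (hP : Good P aff) {k K : Type u} [Field k] [IsAlgClosed k] [Field K] [IsAlgClosed K] [Algebra k K]
    (G : Over (Spec (CommRingCat.of k))) [GrpObj G] [LocallyOfFiniteType G.hom] [QuasiCompact G.hom]
    (h : Q P aff n K (Red.bc (sp (algebraMap k K)) G)) : Q P aff n k G := by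
  obtain ⟨H, _, i, hi, hcl, hsm, ha, hc, hPH, hn⟩ := h
  have hsep : IsSeparated G.hom := Books.AntiAffine.isSeparated_hom G
  have hlfp : LocallyOfFinitePresentation G.hom := inferInstance
  have hlft : LocallyOfFiniteType (Red.bc (sp (algebraMap k K)) G).hom :=
    inferInstanceAs (LocallyOfFiniteType (pullback.snd G.hom (sp (algebraMap k K))))
  have hln : IsLocallyNoetherian (Red.bc (sp (algebraMap k K)) G).left :=
    LocallyOfFiniteType.isLocallyNoetherian (Red.bc (sp (algebraMap k K)) G).hom
  have hilfp : LocallyOfFinitePresentation i.left := inferInstance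
  obtain ⟨B, hB, N, _, ν, e, hν, hνcl, hfl, hNlfp, hqc, haff, -⟩ := Model.exists_model G H i
  have hft : Algebra.FiniteType k B := B.fg_iff_finiteType.mp hB
  obtain ⟨χ⟩ := exists_algHom (k := k) (B := B)
  have hNsep : IsSeparated N.hom := by
    rw [← Over.w ν]
    have : IsSeparated (pullback.snd G.hom (sp (algebraMap k B))) := inferInstance
    change IsSeparated (ν.left ≫ pullback.snd G.hom (sp (algebraMap k B)))
    infer_instance
  have h1 : Q P aff n k (Red.bc (sp χ.toRingHom) N) := by
    refine q_of_domain hP (algebraMap B K) χ.toRingHom Subtype.val_injective N (fun h => haff (ha h))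
      (smooth_iso e hsm) (connectedSpace_iso e hc) ?_ ?_
    · exact hP.iso e hPH
    · rwa [← dim_iso e]
  have hcl2 : IsClosedImmersion ((Over.pullback (sp χ.toRingHom)).map ν).left := bc_mono _ ν
  have h2 : Q P aff n k (Red.bc (sp χ.toRingHom) (Red.bc (sp (algebraMap k B)) G)) :=
    h1.mono ((Over.pullback (sp χ.toRingHom)).map ν)
  refine h2.iso (towerId _ _ ?_ G)
  rw [sp_comp, ← sp_id]
  congr 1
  exact χ.comp_algebraMap

/-- Large subgroups and extensions of algebraically closed fields. -/
theorem q_up (hP : Good P aff) {k K : Type u} [Field k] [IsAlgClosed k] [Field K] [IsAlgClosed K] (ψ : k →+* K)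
    (G : Over (Spec (CommRingCat.of k))) [GrpObj G] [LocallyOfFiniteType G.hom] [QuasiCompact G.hom]
    (h : Q P aff n k G) : Q P aff n K (Red.bc (sp ψ) G) := by
  obtain ⟨H, _, i, hi, hcl, hsm, ha, hc, hPH, hn⟩ := h
  have hsep : IsSeparated H.hom := Books.AntiAffine.isSeparated_hom H
  have hqc : QuasiCompact H.hom := by rw [← Over.w i]; infer_instance
  have hcl2 : IsClosedImmersion ((Over.pullback (sp ψ)).map i).left := bc_mono _ i
  let e : Grp.mk (Red.bc (sp (RingHom.id k)) H) ≅ Grp.mk H :=
    Sga3B.BcIso.bcCongrIso sp_id H ≪≫ Sga3B.BcIso.bcIdIso H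
  have h1 : Q P aff n K (Red.bc (sp ψ) H) := by
    refine q_of_domain hP (RingHom.id k) ψ Function.injective_id H ha (smooth_iso e.symm hsm)
      (connectedSpace_iso e.symm hc) (hP.iso e.symm hPH) ?_
    rwa [dim_iso e]
  exact h1.mono ((Over.pullback (sp ψ)).map i)

theorem q_bc_iff (hP : Good P aff) {k K : Type u} [Field k] [IsAlgClosed k] [Field K] [IsAlgClosed K]
    (ψ : k →+* K) (G : Over (Spec (CommRingCat.of k))) [GrpObj G] [LocallyOfFiniteType G.hom]
    [QuasiCompact G.hom] : Q P aff n K (Red.bc (sp ψ) G) ↔ Q P aff n k G := by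
  let _ : Algebra k K := ψ.toAlgebra
  exact ⟨q_down hP G, q_up hP ψ G⟩

end K412.Machine
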