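import Groth.Agent.GIT.K690.GLnRep
import Groth.Agent.S16480
import Groth.Agent.Books.AffBridge2
import Groth.Agent.AlgGrp.K411.IsogUnip

/-!
# Faithful linear representations of affine algebraic groups, with values in `FrB.GLn`
-/

set_option autoImplicit false
universe u

open CategoryTheory CategoryTheory.Limits AlgebraicGeometry MonObj MonoidalCategory
  CartesianMonoidalCategory GrpObj

namespace K412.AffRep

open Groth.Agent K690.EqMat K690.Chart K690.GLnRep CoactBr CoordGrp Groth.Agent.Books.AffBridge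

/-- A morphism is a homomorphism if it is one on points with values in affine schemes. -/
theorem isMonHom_of_sp {k : Type u} [CommRing k] {G H : Over (Spec (CommRingCat.of k))} [GrpObj G] [GrpObj H]
    (g : G ⟶ H) (h : ∀ (C : Type u) [CommRing C] [Algebra k C] (x y : sp k C ⟶ G),
      (x * y) ≫ g = (x ≫ g) * (y ≫ g)) : IsMonHom g := by
  have h1 : μ[G] ≫ g = (g ⊗ₘ g) ≫ μ[H] := by
    apply hom_ext_sp
    intro C _ _ t
    have h2 := h C (t ≫ fst G G) (t ≫ snd G G)
    have h3 : (t ≫ fst G G) * (t ≫ snd G G) = t ≫ μ[G] := by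
      rw [← MonObj.comp_mul, Hom.mul_def, lift_fst_snd, Category.id_comp]
    rw [h3] at h2
    rw [← Category.assoc, h2, Hom.mul_def, ← Category.assoc]
    congr 1
    ext <;> simp
  have h0 : η[G] ≫ g = η[H] := by
    have h2 : (η[G] ≫ g) * (η[G] ≫ g) = η[G] ≫ g := by
      have h3 : ∀ a b : 𝟙_ (Over (Spec (CommRingCat.of k))) ⟶ G, (a * b) ≫ g = (a ≫ g) * (b ≫ g) := by
        intro a b
        rw [Hom.mul_def, Category.assoc, h1, Hom.mul_def, ← Category.assoc]
        congr 1
        ext <;> simp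
      rw [← h3, one_eq_one, _root_.mul_one]
    rw [mul_eq_left] at h2
    rw [h2, one_eq_one]
  exact { mul_hom := h1, one_hom := h0 }

/-- **Faithful representations.** -/
theorem exists_rep (k : Type u) [Field k] (A : Type u) [CommRing A] [HopfAlgebra k A] [Algebra.FiniteType k A] :
    ∃ (n : ℕ) (g : SpecOver k A ⟶ FrB.GLn n (Spec (CommRingCat.of k))), IsMonHom g ∧ Mono g := by
  obtain ⟨n, π, hπ⟩ := S16480.result k A
  let p : sp k A ⟶ sp k (GLn n k) := pt (π : GLn n k →ₐ[k] A)
  have hp : IsMonHom p := Books.AffBridge.isMonHom_specMap k π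
  have hM : IsUnit (mat p).det := by
    have h1 : mat p * mat p⁻¹ = 1 := by rw [← mat_mul, mul_inv_cancel, mat_one]
    exact IsUnit.of_mul_eq_one _ (by rw [← Matrix.det_mul, h1, Matrix.det_one])
  obtain ⟨g, hg⟩ := frbRep_exists (k := k) (C := A) hM
  have key : ∀ {C : Type u} [CommRing C] [Algebra k C] (x : sp k C ⟶ sp k A),
      (frbRep k n).c (x ≫ g) = mat (x ≫ p) := by
    intro C _ _ x
    obtain ⟨ξ, rfl⟩ := exists_pt x
    rw [← (frbRep k n).c_map, hg, mat_comp]
  refine ⟨n, g, ?_, ?_⟩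
  · apply isMonHom_of_sp
    intro C _ _ x y
    apply frbRep_injective
    rw [key, (frbRep k n).c_mul, key, key, MonObj.mul_comp, mat_mul]
  · constructor
    intro T x y hxy
    apply hom_ext_sp
    intro C _ _ t
    obtain ⟨ξ, hξ⟩ := exists_pt (t ≫ x)
    obtain ⟨ζ, hζ⟩ := exists_pt (t ≫ y)
    have h1 : mat (pt ξ ≫ p) = mat (pt ζ ≫ p) := by
      rw [← key, ← key]
      congr 1
      rw [hξ, hζ, Category.assoc, Category.assoc, hxy]
    have h2 := mat_injective h1
    rw [← pt_comp, ← pt_comp] at h2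
    have h3 := pt_injective h2
    rw [← hξ, ← hζ]
    congr 1
    ext a
    obtain ⟨b, rfl⟩ := hπ a
    exact DFunLike.congr_fun h3 b

end K412.AffRep
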