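import Groth.Agent.Sga3B.GLn
import Groth.Agent.S16480
import Groth.Agent.Books.AffBridge
import Groth.Prelude.Def_AlgGrp

/-!
# Linear actions on affine spaces
-/

set_option autoImplicit false
universe u

open CategoryTheory CategoryTheory.Limits AlgebraicGeometry MonObj MonoidalCategory
  CartesianMonoidalCategory GrpObj

namespace K412.LinAct

open Groth.Agent.Sga3B.GLn

/-- An action from a map which is an action on points. -/
noncomputable def mkAction {S : Scheme.{u}} {Q X : Over S} [GrpObj Q] (act : Q ⊗ X ⟶ X)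
    (h1 : ∀ {T : Over S} (x : T ⟶ X), lift (1 : T ⟶ Q) x ≫ act = x)
    (h2 : ∀ {T : Over S} (g h : T ⟶ Q) (x : T ⟶ X), lift (g * h) x ≫ act = lift g (lift h x ≫ act) ≫ act) :
    AlgGrp.Action Q X where
  act := act
  one_act := by
    have e : (η[Q] ▷ X : 𝟙_ (Over S) ⊗ X ⟶ Q ⊗ X) = lift 1 (snd _ _) := by
      apply CartesianMonoidalCategory.hom_ext
      · rw [whiskerRight_fst, lift_fst, Hom.one_def]
        congr 1
      · rw [whiskerRight_snd, lift_snd]
    rw [e, h1]
    exact (leftUnitor_hom X).symm
  mul_act := by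
    have e : (μ[Q] ▷ X : (Q ⊗ Q) ⊗ X ⟶ Q ⊗ X) =
        lift ((fst _ _ ≫ fst _ _) * (fst _ _ ≫ snd _ _)) (snd _ _) := by
      apply CartesianMonoidalCategory.hom_ext
      · rw [whiskerRight_fst, lift_fst, Hom.mul_def, ← comp_lift, lift_fst_snd, Category.comp_id]
      · rw [whiskerRight_snd, lift_snd]
    rw [e, h2, ← Category.assoc (α_ Q Q X).hom]
    congr 1
    apply CartesianMonoidalCategory.hom_ext
    · simp
    · simp only [lift_snd, Category.assoc, whiskerLeft_snd]
      rw [← Category.assoc]
      congr 1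
      ext <;> simp

variable (m : Type u) [Fintype m] [DecidableEq m] (S : Scheme.{u})

/-- The affine space as an object over `S`. -/
noncomputable def V : Over S := Over.mk (𝔸(m; S) ↘ S)

variable {m S}

/-- The vector of functions of a point. -/
noncomputable def vec {T : Over S} (v : T ⟶ V m S) : m → Γ(T.left, ⊤) :=
  fun i => v.left.appTop.hom (AffineSpace.coord S i)

/-- The point of a vector of functions. -/
noncomputable def ofVec {T : Over S} (w : m → Γ(T.left, ⊤)) : T ⟶ V m S :=
  Over.homMk (AffineSpace.homOfVector T.hom w) (AffineSpace.homOfVector_over _ _)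

omit [Fintype m] [DecidableEq m] in
theorem vec_ofVec {T : Over S} (w : m → Γ(T.left, ⊤)) : vec (ofVec w) = w := by
  funext i
  exact AffineSpace.homOfVector_appTop_coord T.hom w i

omit [Fintype m] [DecidableEq m] in
theorem vec_injective {T : Over S} {v w : T ⟶ V m S} (h : vec v = vec w) : v = w := by
  ext1
  apply AffineSpace.hom_ext
  · exact (Over.w v).trans (Over.w w).symm
  · intro i
    exact congrFun h i

omit [Fintype m] [DecidableEq m] in
theorem vec_comp {T T' : Over S} (f : T' ⟶ T) (v : T ⟶ V m S) :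
    vec (f ≫ v) = fun i => f.left.appTop.hom (vec v i) := by
  funext i
  simp [vec]

theorem mulVec_comp {T T' : Over S} (f : T' ⟶ T) (M : Matrix m m Γ(T.left, ⊤)) (w : m → Γ(T.left, ⊤)) :
    (fun i => f.left.appTop.hom ((M.mulVec w) i)) =
      (pull m f.left M).mulVec (fun i => f.left.appTop.hom (w i)) := by
  funext i
  simp [Matrix.mulVec, dotProduct]

variable {G : Over S} [GrpObj G] (ρ : G ⟶ GLS m S) [IsMonHom ρ]

/-- The action morphism. -/
noncomputable def act : G ⊗ V m S ⟶ V m S :=
  ofVec ((mat (fst G (V m S) ≫ ρ)).mulVec (vec (snd G (V m S))))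

omit [IsMonHom ρ] in
theorem vec_act {T : Over S} (g : T ⟶ G) (v : T ⟶ V m S) :
    vec (lift g v ≫ act ρ) = (mat (g ≫ ρ)).mulVec (vec v) := by
  rw [vec_comp, act, vec_ofVec, mulVec_comp, ← mat_comp, ← vec_comp, lift_fst_assoc, lift_snd]

/-- The linear action. -/
noncomputable def linAct : AlgGrp.Action G (V m S) :=
  mkAction (act ρ)
    (fun x => by
      apply vec_injective
      rw [vec_act, MonObj.one_comp, mat_one, Matrix.one_mulVec])
    (fun g h x => by
      apply vec_injective
      rw [vec_act, vec_act, vec_act, MonObj.mul_comp, mat_mul, Matrix.mulVec_mulVec])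

/-- The origin is fixed. -/
theorem isFixedPt_zero : (linAct ρ).IsFixedPt (ofVec 0) := by
  intro T g
  apply vec_injective
  change vec (lift g _ ≫ act ρ) = _
  have h1 : vec (toUnit T ≫ (ofVec 0 : 𝟙_ (Over S) ⟶ V m S)) = 0 := by
    rw [vec_comp, vec_ofVec]
    funext i
    exact map_zero _
  rw [vec_act, h1, Matrix.mulVec_zero]

/-- A representation whose linear action is trivial is trivial. -/
theorem eq_one_of_trivial (h : (linAct ρ).act = snd G (V m S)) : ρ = 1 := by
  have h1 : ∀ w : m → Γ(G.left, ⊤), (mat ρ).mulVec w = w := by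
    intro w
    have h2 := vec_act ρ (𝟙 G) (ofVec w)
    have h3 : act ρ = snd G (V m S) := h
    rw [h3, lift_snd, vec_ofVec, Category.id_comp] at h2
    exact h2.symm
  apply mat_injective
  rw [mat_one]
  ext i j
  have h4 := congrFun (h1 (Pi.single j 1)) i
  rw [Matrix.mulVec_single_one] at h4
  rw [Matrix.one_apply]
  rw [Matrix.col_apply] at h4
  rw [h4, Pi.single_apply]

end K412.LinAct
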