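import Groth.Agent.AlgGrp.K412.MachA
import Groth.Agent.AlgGrp.K411.WordDens

/-!
# Solvable, nilpotent and commutative groups in the specialization machine
-/

set_option autoImplicit false
universe u

open CategoryTheory CategoryTheory.Limits AlgebraicGeometry MonObj MonoidalCategory
  CartesianMonoidalCategory GrpObj

namespace K412.Machine

open Groth.Agent Stage Tower AlgGrp.K411.WordDens

section mono

variable {S : Scheme.{u}} {H G : Over S} [GrpObj H] [GrpObj G] (i : H ⟶ G) [IsMonHom i] [Mono i]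

/-- The homomorphism on points. -/
noncomputable def ptsHom (X : Over S) : (X ⟶ H) →* (X ⟶ G) where
  toFun := fun x => x ≫ i
  map_one' := MonObj.one_comp i
  map_mul' := fun x y => MonObj.mul_comp x y i

include i

theorem isSolvableGrp_of_mono (h : Red.IsSolvableGrp G) : Red.IsSolvableGrp H := by
  obtain ⟨n, hn⟩ := h
  refine ⟨n, fun X => ?_⟩
  have hf : Function.Injective (ptsHom i X) := fun x y hxy => (cancel_mono i).1 hxy
  have h1 := map_derivedSeries_le_derivedSeries (ptsHom i X) n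
  rw [hn X, le_bot_iff] at h1
  rwa [Subgroup.map_eq_bot_iff_of_injective _ hf] at h1

theorem isNilpotentGrp_of_mono (h : AGF.IsNilpotentGrp G) : AGF.IsNilpotentGrp H := by
  obtain ⟨n, hn⟩ := h
  refine ⟨n, fun X => ?_⟩
  rw [Agf.H611.NilGrp.upperCentralSeries_eq_top_iff]
  have key : ∀ (m : ℕ) (g : X ⟶ H), g ∈ Agf.H611.NilGrp.ncs (X ⟶ H) m →
      g ≫ i ∈ Agf.H611.NilGrp.ncs (X ⟶ G) m := by
    intro m
    induction m with
    | zero => intro g _; trivial
    | succ m ih =>
      rintro _ ⟨a, ha, b, rfl⟩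
      refine ⟨a ≫ i, ih a ha, b ≫ i, ?_⟩
      simp only [commutatorElement_def, MonObj.mul_comp, GrpObj.inv_comp]
  intro g hg
  have h1 := (Agf.H611.NilGrp.upperCentralSeries_eq_top_iff n).1 (hn X) _ (key n g hg)
  rw [← cancel_mono i, h1, MonObj.one_comp]

theorem isCommMonObj_of_mono (h : IsCommMonObj G) : IsCommMonObj H where
  mul_comm := by
    rw [← cancel_mono i]
    simp only [Category.assoc, IsMonHom.mul_hom, ← BraidedCategory.braiding_naturality_assoc,
      IsCommMonObj.mul_comm]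

end mono

theorem mono_of_closed {S : Scheme.{u}} {H G : Over S} (i : H ⟶ G) [IsClosedImmersion i.left] : Mono i :=
  (Over.forget _).mono_of_mono_map (inferInstanceAs (Mono i.left))

theorem isCommMonObj_bc {S S' : Scheme.{u}} (f : S' ⟶ S) (G : Over S) [GrpObj G] (h : IsCommMonObj G) :
    IsCommMonObj (Red.bc f G) :=
  inferInstanceAs (IsCommMonObj ((Over.pullback f).obj G))

theorem good_solvable (aff : Prop) : Good.{u} (fun _ _ G _ => Red.IsSolvableGrp G) aff where
  sub K _ _ G H _ _ i _ _ h := by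
    have := mono_of_closed i
    exact isSolvableGrp_of_mono i h
  spec R K k _ _ _ _ _ _ φ ψ hφ G _ _ _ _ _ _ _ _ h := by
    have : Fact (Function.Injective φ) := ⟨hφ⟩
    exact isSolvableGrp_bc _ _ (isSolvableGrp_of_dominant (f := sp φ) h)

theorem good_nilpotent (aff : Prop) : Good.{u} (fun _ _ G _ => AGF.IsNilpotentGrp G) aff where
  sub K _ _ G H _ _ i _ _ h := by
    have := mono_of_closed i
    exact isNilpotentGrp_of_mono i h
  spec R K k _ _ _ _ _ _ φ ψ hφ G _ _ _ _ _ _ _ _ h := by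
    have : Fact (Function.Injective φ) := ⟨hφ⟩
    exact isNilpotentGrp_bc _ _ (isNilpotentGrp_of_dominant (f := sp φ) h)

theorem good_comm (aff : Prop) : Good.{u} (fun _ _ G _ => IsCommMonObj G) aff where
  sub K _ _ G H _ _ i _ _ h := by
    have := mono_of_closed i
    exact isCommMonObj_of_mono i h
  spec R K k _ _ _ _ _ _ φ ψ hφ G _ _ _ _ _ _ _ _ h := by
    have : Fact (Function.Injective φ) := ⟨hφ⟩
    exact isCommMonObj_bc _ _ (isCommMonObj_of_dominant (f := sp φ) h)

theorem Good.and {P P' : Prp.{u}} {aff : Prop} (h : Good P aff) (h' : Good P' aff) :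
    Good.{u} (fun K _ G _ => P K G ∧ P' K G) aff where
  sub K _ _ G H _ _ i _ _ hh := ⟨h.sub K G H i hh.1, h'.sub K G H i hh.2⟩
  spec R K k _ _ _ _ _ _ φ ψ hφ G _ _ _ _ _ h1 h2 h3 hh :=
    ⟨h.spec R K k φ ψ hφ G h1 h2 h3 hh.1, h'.spec R K k φ ψ hφ G h1 h2 h3 hh.2⟩

end K412.Machine
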