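import Groth.Agent.AlgGrp.K412.Dif
import Groth.Agent.AlgGrp.K412.Props
import Groth.Agent.AlgGrp.K411.IsogUnip
import Groth.Agent.Sga3B.RG.FaithRep

/-!
# Groups without subtori in the specialization machine
-/

set_option autoImplicit false
universe u

open CategoryTheory CategoryTheory.Limits AlgebraicGeometry MonObj MonoidalCategory
  CartesianMonoidalCategory GrpObj

namespace K412.Unip

open Groth.Agent Dif Books.AffBridge Books.AffBridge2 Sga3B.RG Sga3B.RG.BrPts
open WithConv TensorProduct Coalgebra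

section hopf

variable {K : Type u} [Field K] {A : Type u} [CommRing A] [HopfAlgebra K A]

/-- Elements of the algebra as functions on the spectrum. -/
noncomputable def toFn {C : Type u} [CommRing C] [Algebra K C] (c : C) : Fn (SpecOver K C) :=
  (Scheme.ΓSpecIso (CommRingCat.of C)).inv.hom c

theorem pb_specMap {B C : Type u} [CommRing B] [CommRing C] [Algebra K B] [Algebra K C] (ψ : B →ₐ[K] C) (b : B) :
    pb (specMap K ψ) (toFn b) = toFn (ψ b) := by
  have h1 := Scheme.ΓSpecIso_inv_naturality (CommRingCat.ofHom ψ.toRingHom)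
  exact (congrArg (fun f => f.hom b) h1).symm

theorem toFn_injective {C : Type u} [CommRing C] [Algebra K C] : Function.Injective (toFn (K := K) (C := C)) :=
  (ConcreteCategory.bijective_of_isIso (Scheme.ΓSpecIso (CommRingCat.of C)).inv).1

theorem toFn_surjective {C : Type u} [CommRing C] [Algebra K C] : Function.Surjective (toFn (K := K) (C := C)) :=
  (ConcreteCategory.bijective_of_isIso (Scheme.ΓSpecIso (CommRingCat.of C)).inv).2

theorem toFn_sub {C : Type u} [CommRing C] [Algebra K C] (a b : C) :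
    toFn (K := K) (a - b) = toFn a - toFn b := map_sub (Scheme.ΓSpecIso (CommRingCat.of C)).inv.hom a b

theorem toFn_zero {C : Type u} [CommRing C] [Algebra K C] : toFn (K := K) (0 : C) = 0 :=
  map_zero (Scheme.ΓSpecIso (CommRingCat.of C)).inv.hom

/-- The constant point. -/
noncomputable abbrev cst (C : Type u) [CommRing C] [Algebra K C] (g : Pt K A) : A →ₐ[K] C :=
  (Algebra.ofId K C).comp g.ofConv

theorem specMap_mul_cst {C : Type u} [CommRing C] [Algebra K C] (ψ : A →ₐ[K] C) (g : Pt K A) :
    specMap K ψ * specMap K (cst C g) = specMap K (ψ.comp (rTr g)) := by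
  have h1 := specMap_mul (k := K) (toConv ψ) (toConv (cst C g))
  rw [ofConv_toConv, ofConv_toConv] at h1
  rw [← h1]
  congr 1
  have h2 : (Algebra.TensorProduct.lift ψ (cst C g) fun _ _ => .all ..) =
      ψ.comp ((Algebra.TensorProduct.rid K K A).toAlgHom.comp
        (Algebra.TensorProduct.map (AlgHom.id K A) g.ofConv)) := by
    apply Algebra.TensorProduct.ext
    · ext a
      simp
    · ext a
      simp [Algebra.ofId_apply, Algebra.algebraMap_eq_smul_one]
  ext a
  exact (AlgHom.convMul_apply (toConv ψ) (toConv (cst C g)) a).trans (DFunLike.congr_fun h2 (comul a))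

theorem dif_specMap (a : A) (g : Pt K A) (n : ℕ) {C : Type u} [CommRing C] [Algebra K C] (ψ : A →ₐ[K] C) :
    dif (G := SpecOver K A) (toFn a) n (specMap K ψ) (specMap K (cst C g)) =
      toFn (ψ ((((rTr g).toLinearMap - 1) ^ n) a)) := by
  induction n generalizing ψ with
  | zero =>
    rw [pow_zero, Module.End.one_apply]
    exact pb_specMap ψ a
  | succ n ih =>
    change dif (G := SpecOver K A) (toFn a) n (specMap K ψ * specMap K (cst C g)) (specMap K (cst C g)) -
      dif (G := SpecOver K A) (toFn a) n (specMap K ψ) (specMap K (cst C g)) = _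
    rw [specMap_mul_cst, ih, ih, ← toFn_sub, pow_succ', Module.End.mul_apply, LinearMap.sub_apply,
      Module.End.one_apply, map_sub]
    rfl

/-- Uniform unipotence of a function, in terms of translation operators. -/
theorem pow_eq_zero_of_LU {a : A} (h : LU (SpecOver K A) (toFn a)) :
    ∃ n : ℕ, ∀ g : Pt K A, (((rTr g).toLinearMap - 1) ^ n) a = 0 := by
  obtain ⟨n, hn⟩ := h.all
  refine ⟨n, fun g => ?_⟩
  have h1 := dif_specMap a g n (AlgHom.id K A)
  rw [hn] at h1
  exact toFn_injective (K := K) (by rw [toFn_zero]; exact h1.symm)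

end hopf

section algClosed

variable {K : Type u} [Field K] [IsAlgClosed K]

open Books.AlgPts

/-- A function on a reduced scheme of finite type vanishing at all points is zero. -/
theorem eq_zero_of_pts {X : Over (Spec (CommRingCat.of K))} [LocallyOfFiniteType X.hom] [IsReduced X.left]
    (f : Fn X) (h : ∀ p : 𝟙_ (Over (Spec (CommRingCat.of K))) ⟶ X, pb p f = 0) : f = 0 := by
  rw [← basicOpen_eq_bot_iff]
  by_contra hne
  have hne' : ((X.left.basicOpen f : Set X.left)).Nonempty := by
    rw [Set.nonempty_iff_ne_empty]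
    intro h0
    apply hne
    ext1
    exact h0
  obtain ⟨p, hp⟩ := exists_pt_mem hne' (X.left.basicOpen f).isOpen.isLocallyClosed
  have h1 : p.left ⁻¹ᵁ X.left.basicOpen f = (𝟙_ (Over (Spec (CommRingCat.of K)))).left.basicOpen (pb p f) :=
    Scheme.preimage_basicOpen_top p.left f
  rw [h p] at h1
  have h2 : IsLocalRing.closedPoint K ∈ p.left ⁻¹ᵁ X.left.basicOpen f := hp
  rw [h1, Scheme.basicOpen_zero] at h2
  exact h2

/-- If all points are unipotent, all functions are uniformly unipotent. -/
theorem LU_of_isUnip {A : Type u} [CommRing A] [HopfAlgebra K A] [Algebra.FiniteType K A] [_root_.IsReduced A]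
    (hred : AlgebraicGeometry.IsReduced (SpecOver K A ⊗ SpecOver K A).left)
    (h : ∀ g : Pt K A, IsUnip g) (a : A) : LU (SpecOver K A) (toFn a) := by
  obtain ⟨W, hfd, haW, hW⟩ := exists_stable_submodule (K := K) a
  have key : ∀ g : Pt K A, (((rTr g).toLinearMap - 1) ^ (Module.finrank K W)) a = 0 := by
    intro g
    have h1 := isNilpotent_subRTr hW (h g)
    obtain ⟨m, hm⟩ := h1
    have h2 : (⟨a, haW⟩ : W) ∈ LinearMap.ker ((subRTr W hW g - 1) ^ m) := by
      rw [hm]; rfl
    have h3 := Module.End.ker_pow_le_ker_pow_finrank _ m h2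
    rw [LinearMap.mem_ker] at h3
    have h4 : ∀ (j : ℕ) (w : W), ((((subRTr W hW g - 1) ^ j) w : W) : A) =
        (((rTr g).toLinearMap - 1) ^ j) (w : A) := by
      intro j
      induction j with
      | zero => intro w; simp
      | succ j ih =>
        intro w
        rw [pow_succ, Module.End.mul_apply, pow_succ, Module.End.mul_apply, ih]
        rfl
    rw [← h4 _ ⟨a, haW⟩, h3]
    rfl
  refine ⟨Module.finrank K W, ?_⟩
  have hft : LocallyOfFiniteType (SpecOver K A).hom := (locallyOfFiniteType_specOver_iff K A).2 inferInstance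
  have hft2 : LocallyOfFiniteType (SpecOver K A ⊗ SpecOver K A).hom := by
    have h1 : (SpecOver K A ⊗ SpecOver K A).hom =
      pullback.fst (SpecOver K A).hom (SpecOver K A).hom ≫ (SpecOver K A).hom := rfl
    rw [h1]
    infer_instance
  refine eq_zero_of_pts _ fun p => ?_
  rw [← dif_comp]
  obtain ⟨x, hx⟩ := (ptEquiv K A).surjective (p ≫ fst _ _)
  obtain ⟨g, hg⟩ := (ptEquiv K A).surjective (p ≫ snd _ _)
  rw [← hx, ← hg]
  have h5 : ∀ y : Pt K A, ptEquiv K A y = (unitIso K).hom ≫ specMap K (y.ofConv) := fun y => rfl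
  have h6 : cst K g = g.ofConv := by ext a; rfl
  rw [h5, h5, dif_comp, ← h6, dif_specMap, key, map_zero, toFn_zero, map_zero]

/-- Functions on smooth connected groups without subtori are uniformly unipotent. -/
theorem LU_of_hasNoSubtorus {U : Over (Spec (CommRingCat.of K))} [GrpObj U] [IsAffine U.left] [Smooth U.hom]
    [ConnectedSpace U.left] (h : Red.HasNoSubtorus K U) (a : Fn U) : LU U a := by
  obtain ⟨A, _, _, e, he, hA⟩ := AlgGrp.K411.IsogUnip.exists_hopf_ft U
  have hiso : IsIso e.hom.left := inferInstanceAs (IsIso ((Over.forget _).map e.hom))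
  have h1 : ∀ g ∈ ptsSub e.hom, IsUnip g := Sga3B.RadOpen.isUnip_of_hasNoSubtorus e.hom h
  have h2 : ∀ g : Pt K A, IsUnip g := fun g => h1 g (mem_ptsSub.2 ⟨ptEquiv K A g ≫ e.inv, by simp⟩)
  have hsm : Smooth (SpecOver K A).hom := by
    rw [hom_eq_of_iso e.symm]
    have : IsIso e.symm.hom.left := inferInstanceAs (IsIso ((Over.forget _).map e.inv))
    infer_instance
  have hr1 : AlgebraicGeometry.IsReduced (SpecOver K A).left := Books.AlgPtsSmooth.isReduced_of_smooth _
  have hr2 : _root_.IsReduced A := (affine_isReduced_iff (CommRingCat.of A)).1 hr1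
  have hsm2 : Smooth (SpecOver K A ⊗ SpecOver K A).hom := by
    have h1 : (SpecOver K A ⊗ SpecOver K A).hom =
      pullback.fst (SpecOver K A).hom (SpecOver K A).hom ≫ (SpecOver K A).hom := rfl
    rw [h1]
    infer_instance
  have hr3 : AlgebraicGeometry.IsReduced (SpecOver K A ⊗ SpecOver K A).left :=
    Books.AlgPtsSmooth.isReduced_of_smooth _
  obtain ⟨b, hb⟩ := toFn_surjective (K := K) (C := A) (pb e.inv a)
  have h3 := (LU_of_isUnip hr3 h2 b).comap e.hom
  rwa [hb, ← pb_comp, e.hom_inv_id, show pb (𝟙 U) a = a by simp [pb]] at h3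

open Sga3B.RG.BrTorus

/-- Evaluation of characters. -/
noncomputable def evPt (n : ℕ) (i : Fin n) (t : Kˣ) : Pt K (KZ K n) :=
  toConv (MonoidAlgebra.lift K K (Multiplicative (Fin n → ℤ))
    { toFun := fun x => ((t ^ (x.toAdd i) : Kˣ) : K)
      map_one' := by simp
      map_mul' := fun x y => by simp [zpow_add] })

omit [IsAlgClosed K] in
theorem evPt_single (n : ℕ) (i : Fin n) (t : Kˣ) (m : Multiplicative (Fin n → ℤ)) :
    (evPt n i t) (MonoidAlgebra.single m (1 : K)) = ((t ^ (m.toAdd i) : Kˣ) : K) := by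
  change MonoidAlgebra.lift K K (Multiplicative (Fin n → ℤ)) _ (MonoidAlgebra.single m (1 : K)) = _
  rw [MonoidAlgebra.lift_single]
  simp

omit [IsAlgClosed K] in
theorem rTr_single (n : ℕ) (g : Pt K (KZ K n)) (m : Multiplicative (Fin n → ℤ)) (c : K) :
    rTr g (MonoidAlgebra.single m c) = (g (MonoidAlgebra.single m (1 : K))) • MonoidAlgebra.single m c := by
  change (Algebra.TensorProduct.rid K K _) (Algebra.TensorProduct.map (AlgHom.id K _)
    g.ofConv (comul (R := K) (MonoidAlgebra.single m c))) = _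
  rw [MonoidAlgebra.comul_single]
  have h1 : g.ofConv (MonoidAlgebra.single m c) = g.ofConv (MonoidAlgebra.single m 1) * c := by
    have h2 : (MonoidAlgebra.single m c : KZ K n) = c • MonoidAlgebra.single m 1 := by
      rw [MonoidAlgebra.smul_single, smul_eq_mul, _root_.mul_one]
    rw [h2, map_smul, smul_eq_mul, _root_.mul_comm]
  simp [h1]

omit [IsAlgClosed K] in
theorem pow_single (n : ℕ) (g : Pt K (KZ K n)) (N : ℕ) (m : Multiplicative (Fin n → ℤ)) (c : K) :
    (((rTr g).toLinearMap - 1) ^ N) (MonoidAlgebra.single m c) =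
      ((g (MonoidAlgebra.single m (1 : K)) - 1) ^ N) • MonoidAlgebra.single m c := by
  induction N with
  | zero => simp
  | succ N ih =>
    rw [pow_succ', Module.End.mul_apply, ih, map_smul, LinearMap.sub_apply, Module.End.one_apply]
    have h1 : (rTr g).toLinearMap (MonoidAlgebra.single m c) = rTr g (MonoidAlgebra.single m c) := rfl
    rw [h1, rTr_single, pow_succ', smul_sub, smul_smul, ← sub_smul]
    congr 1
    ring

omit [IsAlgClosed K] in
theorem coeff_pow (n : ℕ) (g : Pt K (KZ K n)) (N : ℕ) (m : Multiplicative (Fin n → ℤ)) (b : KZ K n) :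
    ((((rTr g).toLinearMap - 1) ^ N) b).coeff m = ((g (MonoidAlgebra.single m (1 : K)) - 1) ^ N) * b.coeff m := by
  classical
  induction b using MonoidAlgebra.induction_linear with
  | zero => simp
  | add x y hx hy => rw [map_add, MonoidAlgebra.coeff_add, MonoidAlgebra.coeff_add, Finsupp.add_apply,
      Finsupp.add_apply, hx, hy, mul_add]
  | single m' c =>
    rw [pow_single, MonoidAlgebra.coeff_smul, Finsupp.smul_apply, MonoidAlgebra.coeff_single, Finsupp.single_apply,
      smul_eq_mul]
    split_ifs with h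
    · rw [h]
    · simp

theorem exists_evPt {n : ℕ} {m : Multiplicative (Fin n → ℤ)} (hm : m ≠ 1) :
    ∃ g : Pt K (KZ K n), g (MonoidAlgebra.single m (1 : K)) ≠ 1 := by
  classical
  obtain ⟨i, hi⟩ : ∃ i, m.toAdd i ≠ 0 := by
    by_contra hcon
    push Not at hcon
    apply hm
    apply Multiplicative.toAdd.injective
    funext i
    exact hcon i
  have hinf : Infinite K := IsAlgClosed.instInfinite
  obtain ⟨t, ht⟩ : ∃ t : Kˣ, t ^ (m.toAdd i) ≠ 1 := by
    by_contra hcon
    push Not at hcon
    have hN : 0 < (m.toAdd i).natAbs := Int.natAbs_pos.mpr hi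
    obtain ⟨x, hx⟩ := Infinite.exists_notMem_finset (insert (0 : K) (Polynomial.nthRoots (m.toAdd i).natAbs (1 : K)).toFinset)
    rw [Finset.mem_insert, not_or, Multiset.mem_toFinset, Polynomial.mem_nthRoots hN] at hx
    apply hx.2
    have h1 := hcon (Units.mk0 x hx.1)
    have h2 : (Units.mk0 x hx.1) ^ (m.toAdd i).natAbs = 1 := pow_natAbs_eq_one.2 h1
    have h4 := congrArg (Units.val) h2
    simpa using h4
  refine ⟨evPt n i t, ?_⟩
  rw [evPt_single]
  intro h
  exact ht (Units.ext h)

/-- Uniformly unipotent functions on a split torus are constant. -/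
theorem eq_single_of_pow {n : ℕ} {b : KZ K n} (h : ∃ N : ℕ, ∀ g : Pt K (KZ K n), (((rTr g).toLinearMap - 1) ^ N) b = 0) :
    b = algebraMap K _ (b.coeff 1) := by
  classical
  obtain ⟨N, hN⟩ := h
  have h1 : ∀ m : Multiplicative (Fin n → ℤ), m ≠ 1 → b.coeff m = 0 := by
    intro m hm
    obtain ⟨g, hg⟩ := exists_evPt (K := K) hm
    have h2 := coeff_pow n g N m b
    rw [hN g] at h2
    have h3 : (g (MonoidAlgebra.single m (1 : K)) - 1) ^ N ≠ 0 := pow_ne_zero _ (sub_ne_zero.2 hg)
    have h4 : (0 : KZ K n).coeff m = 0 := rfl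
    rw [h4] at h2
    exact (mul_eq_zero.1 h2.symm).resolve_left h3
  rw [MonoidAlgebra.coe_algebraMap]
  apply MonoidAlgebra.coeff_injective
  ext m
  by_cases hm : m = 1
  · subst hm
    simp
  · rw [h1 m hm]
    simp [Ne.symm hm]

/-- Uniformly unipotent functions on a torus are constant. -/
theorem pb_one_eq_of_LU {T : Over (Spec (CommRingCat.of K))} [GrpObj T] (hT : Red.IsTorus T) {b : Fn T}
    (hb : LU T b) : pb (1 : T ⟶ T) b = b := by
  obtain ⟨n, e, he⟩ := isTorus_iff.1 hT
  have : IsMonHom e.inv := inferInstance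
  obtain ⟨c, hc⟩ := toFn_surjective (K := K) (C := KZ K n) (pb e.inv b)
  have h1 := hb.comap e.inv
  rw [← hc] at h1
  have h2 := eq_single_of_pow (pow_eq_zero_of_LU h1)
  have h3 : pb (1 : SpecOver K (KZ K n) ⟶ SpecOver K (KZ K n)) (toFn c) = toFn c := by
    rw [← specMap_one, pb_specMap, h2]
    congr 1
    exact (AlgHom.commutes _ _)
  have h4 : b = pb e.hom (toFn c) := by
    rw [hc, ← pb_comp, e.hom_inv_id]
    simp [pb]
  rw [h4, ← pb_comp, MonObj.one_comp, ← MonObj.comp_one e.hom, pb_comp, h3]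

end algClosed

open Tower Machine Factor

theorem good_noSubtorus : Good.{u} (fun K _ G _ => Red.HasNoSubtorus K G) True where
  sub K _ _ G H _ _ i _ _ h := by
    have := mono_of_closed i
    intro T _ j _ _ hT
    exact h T (j ≫ i) hT
  spec R K k _ _ _ _ _ _ φ ψ hφ G _ _ _ _ _ ha hsm hconn h := by
    have haff : IsAffine G.left := ha trivial
    have hdom : Fact (Function.Injective φ) := ⟨hφ⟩
    have haffU : IsAffine (Red.bc (sp φ) G).left := inferInstanceAs (IsAffine (pullback G.hom (sp φ)))
    have h1 : ∀ a : Fn G, LU (Red.bc (sp ψ) G) (fnBc (sp ψ) a) := fun a =>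
      (LU.of_dominant (sp φ) (LU_of_hasNoSubtorus h (fnBc (sp φ) a))).bc (sp ψ)
    intro T _ j _ _ hT
    have h2 : ∀ a : Fn G, pb j (fnBc (sp ψ) a) = pb (1 : T ⟶ Red.bc (sp ψ) G) (fnBc (sp ψ) a) := by
      intro a
      rw [← pb_one_eq_of_LU hT ((h1 a).comap j), ← pb_comp, MonObj.one_comp]
    have h3 : j.left ≫ pullback.fst G.hom (sp ψ) =
        (1 : T ⟶ Red.bc (sp ψ) G).left ≫ pullback.fst G.hom (sp ψ) := by
      apply ext_of_isAffine
      ext a
      have h4 : ∀ x : T ⟶ Red.bc (sp ψ) G, (x.left ≫ pullback.fst G.hom (sp ψ)).appTop.hom a =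
          pb x (fnBc (sp ψ) a) := by
        intro x
        rw [Scheme.Hom.comp_appTop]
        rfl
      exact (h4 j).trans ((h2 a).trans (h4 1).symm)
    have h5 : j = 1 := by
      apply hom_ext_bc
      ext1
      rw [Over.comp_left, Over.comp_left, pr_left]
      exact h3
    apply AlgGrp.K411.IsogUnip.isTrivialGrp_of_id_eq_one
    rw [← cancel_mono j, Category.id_comp, MonObj.one_comp, h5]

end K412.Unip
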