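import Groth.Agent.AlgGrp.K412.AffRep
import Groth.Agent.AlgGrp.K412.LinAct
import Groth.Agent.AlgGrp.K412.Unip

/-!
# Faithful linear representations of affine algebraic groups, with values in `GLS`
-/

set_option autoImplicit false
universe u

open CategoryTheory CategoryTheory.Limits AlgebraicGeometry MonObj MonoidalCategory
  CartesianMonoidalCategory GrpObj

namespace K412.AffRep

open Groth.Agent K690.EqMat K690.Chart CoactBr CoordGrp Groth.Agent.Books.AffBridge
open Groth.Agent.Sga3B.GLn (GLS ofMat mat_ofMat mat_injective)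
open K412.Unip

theorem exists_repS (k : Type u) [Field k] (A : Type u) [CommRing A] [HopfAlgebra k A] [Algebra.FiniteType k A] :
    ∃ (m : Type u) (_ : Fintype m) (_ : DecidableEq m) (g : SpecOver k A ⟶ GLS m (Spec (CommRingCat.of k))),
      IsMonHom g ∧ Mono g := by
  obtain ⟨n, π, hπ⟩ := S16480.result k A
  let p : sp k A ⟶ sp k (GLn n k) := pt (π : GLn n k →ₐ[k] A)
  have hp : IsMonHom p := Books.AffBridge.isMonHom_specMap k π
  -- the matrix of functions of a matrix
  let fm : ∀ {C : Type u} [CommRing C] [Algebra k C], Matrix (Fin n) (Fin n) C →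
      Matrix (ULift.{u} (Fin n)) (ULift.{u} (Fin n)) Γ((SpecOver k C).left, ⊤) :=
    fun {C} _ _ M => (M.map (Scheme.ΓSpecIso (CommRingCat.of C)).inv.hom).submatrix ULift.down ULift.down
  have fm_mul : ∀ {C : Type u} [CommRing C] [Algebra k C] (M N : Matrix (Fin n) (Fin n) C),
      fm (M * N) = fm M * fm N := by
    intro C _ _ M N
    change ((M * N).map (Scheme.ΓSpecIso (CommRingCat.of C)).inv.hom).submatrix Equiv.ulift Equiv.ulift = _
    rw [Matrix.map_mul, ← Matrix.submatrix_mul_equiv _ _ Equiv.ulift Equiv.ulift Equiv.ulift]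
    rfl
  have fm_one : ∀ {C : Type u} [CommRing C] [Algebra k C], fm (1 : Matrix (Fin n) (Fin n) C) = 1 := by
    intro C _ _
    change ((1 : Matrix (Fin n) (Fin n) C).map (Scheme.ΓSpecIso (CommRingCat.of C)).inv.hom).submatrix
      Equiv.ulift Equiv.ulift = _
    rw [Matrix.map_one _ (map_zero _) (map_one _), Matrix.submatrix_one_equiv]
    rfl
  have fm_inj : ∀ {C : Type u} [CommRing C] [Algebra k C] (M N : Matrix (Fin n) (Fin n) C),
      fm M = fm N → M = N := by
    intro C _ _ M N h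
    ext i j
    exact toFn_injective (K := k) (congrFun (congrFun h ⟨i⟩) ⟨j⟩)
  have hM : IsUnit (fm (K690.GLnRep.mat p)).det := by
    have h1 : K690.GLnRep.mat p * K690.GLnRep.mat p⁻¹ = 1 := by
      rw [← K690.GLnRep.mat_mul, mul_inv_cancel, K690.GLnRep.mat_one]
    exact IsUnit.of_mul_eq_one _ (by rw [← Matrix.det_mul, ← fm_mul, h1, fm_one, Matrix.det_one])
  let g : SpecOver k A ⟶ GLS (ULift.{u} (Fin n)) (Spec (CommRingCat.of k)) := ofMat (fm (K690.GLnRep.mat p)) hM
  have key : ∀ {C : Type u} [CommRing C] [Algebra k C] (x : sp k C ⟶ sp k A),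
      Sga3B.GLn.mat (x ≫ g) = fm (K690.GLnRep.mat (x ≫ p)) := by
    intro C _ _ x
    obtain ⟨ξ, rfl⟩ := exists_pt x
    rw [Sga3B.GLn.mat_comp, mat_ofMat, K690.GLnRep.mat_comp]
    ext i j
    exact pb_specMap ξ _
  refine ⟨ULift.{u} (Fin n), inferInstance, inferInstance, g, ?_, ?_⟩
  · apply isMonHom_of_sp
    intro C _ _ x y
    apply mat_injective
    rw [key, Sga3B.GLn.mat_mul, key, key, MonObj.mul_comp, K690.GLnRep.mat_mul, fm_mul]
  · constructor
    intro T x y hxy
    apply hom_ext_sp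
    intro C _ _ t
    obtain ⟨ξ, hξ⟩ := exists_pt (t ≫ x)
    obtain ⟨ζ, hζ⟩ := exists_pt (t ≫ y)
    have h1 : K690.GLnRep.mat (pt ξ ≫ p) = K690.GLnRep.mat (pt ζ ≫ p) := by
      apply fm_inj
      rw [← key, ← key]
      congr 1
      rw [hξ, hζ, Category.assoc, Category.assoc, hxy]
    have h2 := K690.GLnRep.mat_injective h1
    rw [← pt_comp, ← pt_comp] at h2
    have h3 := pt_injective h2
    rw [← hξ, ← hζ]
    congr 1
    ext a
    obtain ⟨b, rfl⟩ := hπ a
    exact DFunLike.congr_fun h3 b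

end K412.AffRep
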