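import Groth.Prelude.Def_Red
import Groth.Agent.Sga3C.SchemImage
import Groth.Agent.Sga3C.SubGrp
import Mathlib.AlgebraicGeometry.Morphisms.SchemeTheoreticallyDominant

/-!
# Factorisations and identities of flat schemes are tested after a schematically dominant base change

`f : S' ⟶ S` quasi-compact and schematically dominant.

* `exists_factor` : `X` flat over `S`, `i : N ⟶ G` a closed immersion: `g : X ⟶ G` factors through `N` if it does
  so after base change;
* `hom_ext` : `X` flat, `Y` separated: morphisms `X ⟶ Y` are determined by their base change;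
* `exists_grpObj` : a flat closed subscheme of a group scheme whose base change is a subgroup is a subgroup.
-/

set_option autoImplicit false
universe u

open CategoryTheory CategoryTheory.Limits AlgebraicGeometry MonObj MonoidalCategory
  CartesianMonoidalCategory GrpObj

namespace K412.Factor

open Groth.Agent.Sga3C.SchemImage

variable {S S' : Scheme.{u}} (f : S' ⟶ S)

/-- The base change, regarded over the original base. -/
noncomputable abbrev dn (X : Over S) : Over S := (Over.map f).obj (Red.bc f X)

/-- The projection of the base change. -/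
noncomputable abbrev pr (X : Over S) : dn f X ⟶ X := (Over.mapPullbackAdj f).counit.app X

@[simp] theorem pr_left (X : Over S) : (pr f X).left = pullback.fst X.hom f := by simp [pr]

@[reassoc]
theorem pr_naturality {X Y : Over S} (g : X ⟶ Y) :
    (Over.map f).map ((Over.pullback f).map g) ≫ pr f Y = pr f X ≫ g :=
  (Over.mapPullbackAdj f).counit.naturality g

/-- A morphism `T ⟶ X_{S'}` over `S'` is determined by its composite with the projection. -/
theorem hom_ext_bc {T : Over S'} {X : Over S} (a b : T ⟶ Red.bc f X)
    (h : (Over.map f).map a ≫ pr f X = (Over.map f).map b ≫ pr f X) : a = b := by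
  apply ((Over.mapPullbackAdj f).homEquiv T X).symm.injective
  rw [Adjunction.homEquiv_counit, Adjunction.homEquiv_counit]
  exact h

theorem map_eq_iff {X Y : Over S} (g h : X ⟶ Y) :
    (Over.pullback f).map g = (Over.pullback f).map h ↔ pr f X ≫ g = pr f X ≫ h := by
  constructor
  · intro e
    rw [← pr_naturality, ← pr_naturality, e]
  · intro e
    apply hom_ext_bc
    rw [pr_naturality, pr_naturality, e]

variable [QuasiCompact f] [IsSchemeTheoreticallyDominant f]

instance dominant_pr (X : Over S) [Flat X.hom] : IsSchemeTheoreticallyDominant (pr f X).left := by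
  rw [pr_left]
  infer_instance

instance quasiCompact_pr (X : Over S) : QuasiCompact (pr f X).left := by
  rw [pr_left]
  infer_instance

/-- Factorisations through a closed immersion are tested after base change. -/
theorem exists_factor {X G N : Over S} [Flat X.hom] (i : N ⟶ G) [IsClosedImmersion i.left] (g : X ⟶ G)
    (h : ∃ y : Red.bc f X ⟶ Red.bc f N, y ≫ (Over.pullback f).map i = (Over.pullback f).map g) :
    ∃ x : X ⟶ N, x ≫ i = g := by
  obtain ⟨y, hy⟩ := h
  refine exists_lift_over (pr f X) g i ((Over.map f).map y ≫ pr f N) ?_
  rw [Category.assoc, ← pr_naturality, ← pr_naturality, ← Functor.map_comp_assoc, hy]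

/-- Morphisms from a flat scheme to a separated one are determined by their base change. -/
theorem hom_ext {X Y : Over S} [Flat X.hom] [IsSeparated Y.hom] (g h : X ⟶ Y)
    (e : (Over.pullback f).map g = (Over.pullback f).map h) : g = h := by
  have h1 := (map_eq_iff f g h).mp e
  obtain ⟨l, hl⟩ := exists_lift_over (pr f X) (𝟙 X) (equalizer.ι g h)
    (equalizer.lift (pr f X) h1) (by simp)
  have h2 := congrArg (l ≫ ·) (equalizer.condition g h)
  simp only [← Category.assoc] at h2
  rwa [hl, Category.id_comp, Category.id_comp] at h2

/-- A flat closed subscheme of a group scheme whose base change is a subgroup is a subgroup. -/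
theorem exists_grpObj {G N : Over S} [GrpObj G] [Flat N.hom] (i : N ⟶ G) [IsClosedImmersion i.left]
    [hS : Flat (𝟙_ (Over S)).hom]
    {H : Over S'} [GrpObj H] (j : H ⟶ Red.bc f G) [IsMonHom j] (e : H ≅ Red.bc f N)
    (he : e.hom ≫ (Over.pullback f).map i = j) :
    ∃ _ : GrpObj N, IsMonHom i := by
  have hmi : Mono i := (Over.forget _).mono_of_mono_map (inferInstanceAs (Mono i.left))
  have hinv : (Over.pullback f).map i = e.inv ≫ j := by rw [← he, e.inv_hom_id_assoc]
  have hNN : Flat (N ⊗ N).hom := by
    have h1 : (N ⊗ N).hom = pullback.fst N.hom N.hom ≫ N.hom := rfl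
    rw [h1]
    infer_instance
  have hfst : (Over.pullback f).map (fst N N) ≫ (Over.pullback f).map i =
      (Over.pullback f).map (fst N N ≫ i) := by rw [Functor.map_comp]
  have hmulmap : ∀ {X : Over S} (a b : X ⟶ G), (Over.pullback f).map (a * b) =
      (Over.pullback f).map a * (Over.pullback f).map b := fun a b => Functor.map_mul _ _ _
  have hinvmap : ∀ {X : Over S} (a : X ⟶ G), (Over.pullback f).map (a⁻¹) =
      ((Over.pullback f).map a)⁻¹ := fun a => Functor.map_inv' _ _
  have honemap : ∀ {X : Over S}, (Over.pullback f).map (1 : X ⟶ G) = 1 := Functor.map_one _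
  refine Groth.Agent.Sga3C.SubGrp.exists_grpObj_of_mono i ?_ ?_ ?_
  · refine exists_factor f i _ ⟨((((Over.pullback f).map (fst N N)) ≫ e.inv) *
      (((Over.pullback f).map (snd N N)) ≫ e.inv)) ≫ e.hom, ?_⟩
    rw [Category.assoc, he, MonObj.mul_comp, Category.assoc, Category.assoc, ← hinv,
      ← Functor.map_comp, ← Functor.map_comp, ← hmulmap]
    congr 1
  · refine exists_factor f i _ ⟨1 ≫ e.hom, ?_⟩
    rw [Category.assoc, he, MonObj.one_comp, ← honemap, one_eq_one]
  · refine exists_factor f i _ ⟨((Over.pullback f).map (𝟙 N) ≫ e.inv)⁻¹ ≫ e.hom, ?_⟩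
    rw [Category.assoc, he, GrpObj.inv_comp, Category.assoc, ← hinv, ← Functor.map_comp, ← hinvmap]
    congr 1

end K412.Factor
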