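import Groth.Agent.AlgGrp.K412.Stage
import Groth.Agent.AlgGrp.K412.Factor
import Groth.Agent.AlgGrp.K412.Tower

/-!
# A model of a subgroup is a subgroup
-/

set_option autoImplicit false
universe u

open CategoryTheory CategoryTheory.Limits AlgebraicGeometry MonObj MonoidalCategory
  CartesianMonoidalCategory GrpObj

namespace K412.Assemble

open Stage Tower
open Groth.Agent.Sga3B.RedIso (und)

theorem flat_unit (S : Scheme.{u}) : Flat (𝟙_ (Over S)).hom := by
  change Flat (𝟙 S)
  infer_instance

variable {T' T S : Scheme.{u}} {q : T' ⟶ T} {g : T ⟶ S} {p : T' ⟶ S}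

theorem iso_compat (h : q ≫ g = p) (G : Over S) [GrpObj G] (H : Over T') (i : H ⟶ Red.bc p G)
    (N : Over T) (ν : N ⟶ Red.bc g G) (e : H.left ⟶ N.left) (pb : IsPullback e H.hom N.hom q)
    (w : e ≫ ν.left ≫ pullback.fst G.hom g = i.left ≫ pullback.fst G.hom p) :
    (isoBc pb).hom ≫ (Over.pullback q).map ν = i ≫ (und (tower h G)).hom := by
  have h2 : (isoBc pb).hom.left ≫ pullback.fst N.hom q = e := isoBc_hom_fst pb
  have h3 : ((Over.pullback q).map ν).left ≫ pullback.fst (Red.bc g G).hom q =
    pullback.fst N.hom q ≫ ν.left := pullback.lift_fst _ _ _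
  have h4 := tower_fst h G
  have h5 : ((isoBc pb).hom ≫ (Over.pullback q).map ν).left ≫ pullback.snd (Red.bc g G).hom q =
    (i ≫ (und (tower h G)).hom).left ≫ pullback.snd (Red.bc g G).hom q :=
    (Over.w ((isoBc pb).hom ≫ (Over.pullback q).map ν)).trans
      (Over.w (i ≫ (und (tower h G)).hom)).symm
  ext1
  apply pullback.hom_ext
  · have h7 : (((isoBc pb).hom ≫ (Over.pullback q).map ν).left ≫ pullback.fst (Red.bc g G).hom q) ≫
        pullback.fst G.hom g =
        ((i ≫ (und (tower h G)).hom).left ≫ pullback.fst (Red.bc g G).hom q) ≫ pullback.fst G.hom g := by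
      have l1 : (((isoBc pb).hom ≫ (Over.pullback q).map ν).left ≫ pullback.fst (Red.bc g G).hom q) ≫
        pullback.fst G.hom g = e ≫ ν.left ≫ pullback.fst G.hom g := by
        rw [Over.comp_left, Category.assoc, Category.assoc, reassoc_of% h3, reassoc_of% h2]
      have l2 : ((i ≫ (und (tower h G)).hom).left ≫ pullback.fst (Red.bc g G).hom q) ≫ pullback.fst G.hom g =
          i.left ≫ pullback.fst G.hom p := by
        rw [Over.comp_left, Category.assoc, Category.assoc, h4]
      rw [l1, l2, w]
    have h8 : (((isoBc pb).hom ≫ (Over.pullback q).map ν).left ≫ pullback.fst (Red.bc g G).hom q) ≫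
        (Red.bc g G).hom =
        ((i ≫ (und (tower h G)).hom).left ≫ pullback.fst (Red.bc g G).hom q) ≫ (Red.bc g G).hom := by
      rw [Category.assoc, Category.assoc, pullback.condition, ← Category.assoc, h5, Category.assoc]
    apply pullback.hom_ext
    · exact h7
    · exact h8
  · exact h5

theorem exists_grp [QuasiCompact q] [IsSchemeTheoreticallyDominant q] (h : q ≫ g = p) (G : Over S) [GrpObj G]
    (H : Over T') [GrpObj H] (i : H ⟶ Red.bc p G) [IsMonHom i]
    (N : Over T) [Flat N.hom] (ν : N ⟶ Red.bc g G) [IsClosedImmersion ν.left]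
    (e : H.left ⟶ N.left) (pb : IsPullback e H.hom N.hom q)
    (w : e ≫ ν.left ≫ pullback.fst G.hom g = i.left ≫ pullback.fst G.hom p) :
    ∃ (_ : GrpObj N) (e : Grp.mk H ≅ Grp.mk (Red.bc q N)), IsMonHom ν ∧
      (und e).hom ≫ (Over.pullback q).map ν = i ≫ (und (tower h G)).hom := by
  have he0 := iso_compat h G H i N ν e pb w
  obtain ⟨hg, hm⟩ := Factor.exists_grpObj q ν (hS := flat_unit _)
    (i ≫ (und (tower h G)).hom) (isoBc pb) he0
  have hmap : IsMonHom ((Over.pullback q).map ν) := inferInstance
  have hmono2 : Mono ((Over.pullback q).map ν) := by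
    have := bc_mono q ν
    exact (Over.forget _).mono_of_mono_map (inferInstanceAs (Mono ((Over.pullback q).map ν).left))
  have he : IsMonHom (isoBc pb).hom := by
    have h1 : IsMonHom ((isoBc pb).hom ≫ (Over.pullback q).map ν) := by rw [he0]; infer_instance
    exact Groth.Agent.Sga3C.SubGrp.isMonHom_of_comp_mono _ ((Over.pullback q).map ν)
  exact ⟨hg, grpIso (isoBc pb) he, hm, he0⟩

end K412.Assemble
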