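import Groth.Agent.Sga3.H515.LimSmooth
import Groth.Agent.VarietyA.AmpleBC1
import Groth.Agent.CalgA.LimFP2
import Groth.Agent.Sga3B.BcIso

/-!
# Closed subschemes of a base change come from a finite stage

`k ⟶ A` a homomorphism of rings, `G` a scheme of finite presentation over `k`, `H` a closed subscheme of finite
presentation of `G_A`, flat over `A`.  Then there are a finitely generated `k`-subalgebra `B` of `A` and a flat closed
subscheme of `G_B` whose base change is `H`.
-/

set_option autoImplicit false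
universe u

open CategoryTheory CategoryTheory.Limits AlgebraicGeometry

namespace K412.Stage

open Groth.Agent.Ega43.LimitDescend Groth.Agent.CalgA.LimFP Groth.Agent.Ega43.LimitDescendClosed
  Groth.Agent.Sga3.H515.LimSmooth

/-- A cartesian square as an isomorphism with the base change. -/
noncomputable def isoBc {S S' : Scheme.{u}} {q : S' ⟶ S} {H : Over S'} {N : Over S} {e : H.left ⟶ N.left}
    (h : IsPullback e H.hom N.hom q) : H ≅ Red.bc q N :=
  Over.isoMk h.isoPullback h.isoPullback_hom_snd

theorem isoBc_hom_fst {S S' : Scheme.{u}} {q : S' ⟶ S} {H : Over S'} {N : Over S} {e : H.left ⟶ N.left}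
    (h : IsPullback e H.hom N.hom q) : (isoBc h).hom.left ≫ pullback.fst N.hom q = e :=
  h.isoPullback_hom_fst

section

variable {J : Type u} [SmallCategory J] [IsCofiltered J] {E : J ⥤ Scheme.{u}} (c : Cone E) (hc : IsLimit c)
  [∀ {i j : J} (φ : i ⟶ j), IsAffineHom (E.map φ)] [∀ j, CompactSpace (E.obj j)]
  [∀ j, QuasiSeparatedSpace (E.obj j)] {B : Scheme.{u}} (t : ∀ j, E.obj j ⟶ B)
  (ht : ∀ {i j : J} (φ : i ⟶ j), E.map φ ≫ t j = t i) (p : c.pt ⟶ B) (hp : ∀ j, c.π.app j ≫ t j = p)


/-- A model at the stage `j` of a closed subscheme `i : H ⟶ G_∞`. -/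
structure Data (G : Over B) {H : Over c.pt} (i : H ⟶ Red.bc p G) (j : J) where
  /-- the model -/
  N : Over (E.obj j)
  /-- the closed immersion -/
  ν : N ⟶ Red.bc (t j) G
  /-- the projection -/
  e : H.left ⟶ N.left
  cl : IsClosedImmersion ν.left
  lfp : LocallyOfFinitePresentation ν.left
  pb : IsPullback e H.hom N.hom (c.π.app j)
  w : e ≫ ν.left ≫ pullback.fst G.hom (t j) = i.left ≫ pullback.fst G.hom p

include ht in
/-- Moving a model to a later stage. -/
theorem Data.exists_move {G : Over B} {H : Over c.pt} {i : H ⟶ Red.bc p G} {j j' : J} (M : Data c t p G i j)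
    (a : j' ⟶ j) : ∃ M' : Data c t p G i j', M'.N = Red.bc (E.map a) M.N := by
  have hw : (pullback.fst M.N.hom (E.map a) ≫ M.ν.left ≫ pullback.fst G.hom (t j)) ≫ G.hom =
      pullback.snd M.N.hom (E.map a) ≫ t j' := by
    rw [← ht a, ← pullback.condition_assoc, Category.assoc, Category.assoc, pullback.condition]
    congr 1
    rw [← Category.assoc]
    congr 1
    exact Over.w M.ν
  let ν' : Red.bc (E.map a) M.N ⟶ Red.bc (t j') G := Over.homMk (pullback.lift _ _ hw) (pullback.lift_snd _ _ _)
  have h1 : IsPullback (pullback.lift (pullback.fst G.hom (t j')) (pullback.snd G.hom (t j') ≫ E.map a)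
      (by rw [Category.assoc, ht a, pullback.condition])) (pullback.snd G.hom (t j')) (pullback.snd G.hom (t j))
      (E.map a) := isPullback_pbSnd t ht G.hom a
  have h2 : IsPullback (pullback.fst M.N.hom (E.map a)) ν'.left M.ν.left
      (pullback.lift (pullback.fst G.hom (t j')) (pullback.snd G.hom (t j') ≫ E.map a)
      (by rw [Category.assoc, ht a, pullback.condition])) := by
    refine IsPullback.of_bot ?_ ?_ h1
    · have h3 : ν'.left ≫ pullback.snd G.hom (t j') = pullback.snd M.N.hom (E.map a) := pullback.lift_snd _ _ _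
      have h4 : M.ν.left ≫ pullback.snd G.hom (t j) = M.N.hom := Over.w M.ν
      rw [h3, h4]
      exact IsPullback.of_hasPullback _ _
    · apply pullback.hom_ext
      · rw [Category.assoc, Category.assoc, pullback.lift_fst]
        exact (pullback.lift_fst _ _ _).symm
      · rw [Category.assoc, Category.assoc, pullback.lift_snd]
        have h3 : ν'.left ≫ pullback.snd G.hom (t j') = pullback.snd M.N.hom (E.map a) := pullback.lift_snd _ _ _
        have h4 : M.ν.left ≫ pullback.snd G.hom (t j) = M.N.hom := Over.w M.ν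
        rw [h4, reassoc_of% h3, pullback.condition]
  have hcl := M.cl
  have hlfp := M.lfp
  have hpb : M.e ≫ M.N.hom = (H.hom ≫ c.π.app j') ≫ E.map a := by
    rw [Category.assoc, c.w, M.pb.w]
  refine ⟨⟨Red.bc (E.map a) M.N, ν', pullback.lift M.e (H.hom ≫ c.π.app j') hpb, ?_, ?_, ?_, ?_⟩, rfl⟩
  · exact MorphismProperty.of_isPullback h2 hcl
  · exact MorphismProperty.of_isPullback h2 hlfp
  · refine IsPullback.of_right (h₁₂ := pullback.fst M.N.hom (E.map a)) (h₂₂ := E.map a) (v₁₃ := M.N.hom) ?_
      (pullback.lift_snd _ _ _) (IsPullback.of_hasPullback _ _)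
    rw [pullback.lift_fst, c.w]
    exact M.pb
  · have h5 : ν'.left ≫ pullback.fst G.hom (t j') =
        pullback.fst M.N.hom (E.map a) ≫ M.ν.left ≫ pullback.fst G.hom (t j) := pullback.lift_fst _ _ _
    rw [h5, pullback.lift_fst_assoc]
    exact M.w

include hc ht hp

/-- A closed subscheme of the base change comes from a finite stage. -/
theorem exists_closed (G : Over B) [QuasiCompact G.hom] [QuasiSeparated G.hom] (H : Over c.pt)
    (i : H ⟶ Red.bc p G) [IsClosedImmersion i.left] [LocallyOfFinitePresentation i.left] :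
    ∃ j : J, Nonempty (Data c t p G i j) := by
  have hX : IsPullback (pullback.fst G.hom p) (pullback.snd G.hom p) G.hom p := IsPullback.of_hasPullback _ _
  let c' := pbCone t ht G.hom c p hp (pullback.fst G.hom p) (pullback.snd G.hom p) hX
  have hc' : IsLimit c' := isLimitPbCone t ht G.hom c p hp _ _ hX hc
  let il : H.left ⟶ c'.pt := i.left
  have hil : IsClosedImmersion il := ‹IsClosedImmersion i.left›
  have hilp : LocallyOfFinitePresentation il := ‹LocallyOfFinitePresentation i.left›
  obtain ⟨j, ⟨M⟩⟩ := Mdl.exists_model hc' il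
  have hM1 := M.lfp
  have hM2 := M.qc
  have hM3 := M.qs
  obtain ⟨j', hj'⟩ := descendsLim_isClosedImmersion (Over.forget j ⋙ pbDiagram t ht G.hom) (overCone c' j)
    (isLimitOverCone c' hc' j) (fun a => (pbDiagram t ht G.hom).map a.hom) (fun φ => overT_w _ j φ) M.f
    (c'.π.app j) (fun a => c'.w a.hom) M.p il M.h hil
  let M' := M.bc j'.hom
  have hcl : IsClosedImmersion M'.f := hj'
  have hlfp : LocallyOfFinitePresentation M'.f := M'.lfp
  let N : Over (E.obj j'.left) := Over.mk (M'.f ≫ pullback.snd G.hom (t j'.left))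
  let ν : N ⟶ Red.bc (t j'.left) G := Over.homMk M'.f rfl
  refine ⟨j'.left, ⟨N, ν, M'.p, hcl, hlfp, ?_, ?_⟩⟩
  · have h1 := (isPullback_pbCone t ht G.hom c p hp _ _ hX j'.left)
    have h2 := M'.h.flip.paste_horiz h1.flip
    have h3 : il ≫ pullback.snd G.hom p = H.hom := Over.w i
    rw [h3] at h2
    exact h2.flip
  · have h1 := M'.h.w
    change M'.p ≫ M'.f ≫ pullback.fst G.hom (t j'.left) = _
    rw [reassoc_of% h1]
    congr 1
    exact pbCone_π_fst t ht G.hom c p hp _ _ hX j'.left

/-- A flat closed subscheme of the base change comes from a flat closed subscheme at a finite stage. -/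
theorem exists_flat_closed (G : Over B) [LocallyOfFinitePresentation G.hom] [QuasiCompact G.hom]
    [QuasiSeparated G.hom] (H : Over c.pt) [Flat H.hom]
    (i : H ⟶ Red.bc p G) [IsClosedImmersion i.left] [LocallyOfFinitePresentation i.left] :
    ∃ (j : J) (M : Data c t p G i j), Flat M.N.hom ∧ (IsAffine H.left → IsAffine M.N.left) := by
  obtain ⟨j, ⟨M⟩⟩ := exists_closed c hc t ht p hp G H i
  have lfpN : ∀ {j : J} (M : Data c t p G i j), LocallyOfFinitePresentation M.N.hom := fun M => by
    have := M.lfp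
    rw [← Over.w M.ν]
    change LocallyOfFinitePresentation (M.ν.left ≫ pullback.snd G.hom (t _))
    infer_instance
  have qcN : ∀ {j : J} (M : Data c t p G i j), QuasiCompact M.N.hom := fun M => by
    have := M.cl
    rw [← Over.w M.ν]
    change QuasiCompact (M.ν.left ≫ pullback.snd G.hom (t _))
    infer_instance
  have qsN : ∀ {j : J} (M : Data c t p G i j), QuasiSeparated M.N.hom := fun M => by
    have := M.cl
    rw [← Over.w M.ν]
    change QuasiSeparated (M.ν.left ≫ pullback.snd G.hom (t _))
    infer_instance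
  have h1 := lfpN M
  have h2 := qcN M
  have h3 := qsN M
  obtain ⟨j', hj'⟩ := descendsLim_flat (Over.forget j ⋙ E) (overCone c j)
    (isLimitOverCone c hc j) (fun a => E.map a.hom) (fun φ => overT_w _ j φ) M.N.hom
    (c.π.app j) (fun a => c.w a.hom) M.e H.hom M.pb ‹Flat H.hom›
  obtain ⟨M', hM'⟩ := M.exists_move c t ht p j'.hom
  have hfl : Flat M'.N.hom := by rw [hM']; exact hj'
  by_cases hH : IsAffine H.left
  swap
  · exact ⟨j'.left, M', hfl, fun h => absurd h hH⟩
  have h1' := lfpN M'
  have h2' := qcN M'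
  have h3' := qsN M'
  obtain ⟨j₀, hj₀⟩ : ∃ j₀ : J, j₀ = j'.left := ⟨_, rfl⟩
  subst hj₀
  let E' := Over.forget j'.left ⋙ E
  let t' : ∀ a : Over j'.left, E'.obj a ⟶ E.obj j'.left := fun a => E.map a.hom
  have ht' : ∀ {a b : Over j'.left} (φ : a ⟶ b), E'.map φ ≫ t' b = t' a := fun φ => overT_w _ j'.left φ
  have hp' : ∀ a, (overCone c j'.left).π.app a ≫ t' a = c.π.app j'.left := fun a => c.w a.hom
  have hlim := isLimitPbCone t' ht' M'.N.hom (overCone c j'.left) (c.π.app j'.left) hp' M'.e H.hom M'.pb
    (isLimitOverCone c hc j'.left)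
  have hpt : IsAffine (pbCone t' ht' M'.N.hom (overCone c j'.left) (c.π.app j'.left) hp' M'.e H.hom M'.pb).pt := hH
  obtain ⟨a, ha⟩ := Scheme.exists_isAffine_of_isLimit _ _ hlim
  obtain ⟨M'', hM''⟩ := M'.exists_move c t ht p a.hom
  refine ⟨a.left, M'', ?_, fun _ => ?_⟩
  · rw [hM'']
    change Flat (pullback.snd M'.N.hom (E.map a.hom))
    infer_instance
  · rw [hM'']
    exact ha

end

end K412.Stage
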