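import Groth.Agent.AlgGrp.K412.Factor
import Groth.Agent.AlgGrp.K412.Tower
import Groth.Agent.AlgGrp.K412.Stage
import Groth.Agent.AlgGrp.K412.Assemble
import Groth.Agent.Sga3.H280.FlatClosure
import Groth.Agent.S4109

/-!
# The schematic closure of a subgroup of the generic fibre over a discrete valuation ring

* `exists_closure` : a closed subgroup of the generic fibre of `H` is the generic fibre of a flat closed subgroup;
* `exists_connected` : a connected closed subgroup of the generic fibre of `H` (locally of finite type) is the generic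
  fibre of a flat immersed subgroup, of finite presentation, separated, with connected fibres, affine if the given
  group is.
-/

set_option autoImplicit false
universe u

open CategoryTheory CategoryTheory.Limits AlgebraicGeometry MonObj MonoidalCategory
  CartesianMonoidalCategory GrpObj

namespace K412.Clos

open Groth.Agent Groth.Agent.Sga7.H116.L1 Groth.Agent.Sga3C.SchemImage Groth.Agent.Sga3.H280.FlatClosure
open Groth.Agent.Sga3B.RedIso (und)
open Stage Tower

variable (R K : Type u) [CommRing R] [IsDomain R] [IsDiscreteValuationRing R] [Field K] [Algebra R K]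
  [IsFractionRing R K]

theorem exists_closure (H : Over (Spec (CommRingCat.of R))) [GrpObj H]
    (A : Over (Spec (CommRingCat.of K))) [GrpObj A] (a : A ⟶ Red.bc (gen R K) H) [IsMonHom a]
    [IsClosedImmersion a.left] :
    ∃ (N : Over (Spec (CommRingCat.of R))) (_ : GrpObj N) (i : N ⟶ H)
      (e : Grp.mk A ≅ Grp.mk (Red.bc (gen R K) N)), IsMonHom i ∧ IsClosedImmersion i.left ∧ Flat N.hom ∧
      (und e).hom ≫ (Over.pullback (gen R K)).map i = a := by
  let g := gen R K
  let j : A.left ⟶ H.left := a.left ≫ pullback.fst H.hom g
  have hasnd : a.left ≫ pullback.snd H.hom g = A.hom := Over.w a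
  have hj : j ≫ H.hom = A.hom ≫ g := by
    simp only [j, Category.assoc]
    rw [pullback.condition, ← Category.assoc, hasnd]
  have hlift : pullback.lift j A.hom hj = a.left := by
    apply pullback.hom_ext
    · rw [pullback.lift_fst]
    · rw [pullback.lift_snd, hasnd]
  have hcl : IsClosedImmersion (pullback.lift j A.hom hj) := by rw [hlift]; infer_instance
  have hpb := isPullback_image g H.hom A.hom j hj
  have hjqc : QuasiCompact j := by
    rw [← pullback.lift_fst j A.hom hj]
    infer_instance
  let N : Over (Spec (CommRingCat.of R)) := Over.mk (j.imageι ≫ H.hom)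
  let i : N ⟶ H := Over.homMk j.imageι rfl
  have hi : IsClosedImmersion i.left := inferInstanceAs (IsClosedImmersion j.imageι)
  have htdom : IsSchemeTheoreticallyDominant j.toImage := dominant_toImage j
  have hNflat : Flat N.hom := flat_of_schemeDominant (K := K) j.toImage N.hom A.hom hpb.w
  let e0 : A.left ⟶ N.left := j.toImage
  have hpb' : IsPullback e0 A.hom N.hom g := hpb
  have hdom : Fact (Function.Injective (algebraMap R K)) := ⟨IsFractionRing.injective R K⟩
  have he0 : (isoBc hpb').hom ≫ (Over.pullback g).map i = a := by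
    have h2 : (isoBc hpb').hom.left ≫ pullback.fst N.hom g = e0 := isoBc_hom_fst hpb'
    have h3 : ((Over.pullback g).map i).left ≫ pullback.fst H.hom g = pullback.fst N.hom g ≫ i.left :=
      pullback.lift_fst _ _ _
    have h5 : ((isoBc hpb').hom ≫ (Over.pullback g).map i).left ≫ pullback.snd H.hom g =
      a.left ≫ pullback.snd H.hom g := (Over.w ((isoBc hpb').hom ≫ (Over.pullback g).map i)).trans (Over.w a).symm
    ext1
    apply pullback.hom_ext
    · have h6 : j.toImage ≫ j.imageι = j := Scheme.Hom.toImage_imageι j
      rw [Over.comp_left, Category.assoc, h3, reassoc_of% h2]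
      exact h6
    · exact h5
  obtain ⟨hg, hm⟩ := Factor.exists_grpObj g i (hS := Assemble.flat_unit _) a (isoBc hpb') he0
  have hmap : IsMonHom ((Over.pullback g).map i) := inferInstance
  have hmono2 : Mono ((Over.pullback g).map i) := by
    have := bc_mono g i
    exact (Over.forget _).mono_of_mono_map (inferInstanceAs (Mono ((Over.pullback g).map i).left))
  have he : IsMonHom (isoBc hpb').hom := by
    have h1 : IsMonHom ((isoBc hpb').hom ≫ (Over.pullback g).map i) := by rw [he0]; infer_instance
    exact Sga3C.SubGrp.isMonHom_of_comp_mono _ ((Over.pullback g).map i)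
  exact ⟨N, hg, i, grpIso (isoBc hpb') he, hm, hi, hNflat, he0⟩

open Groth.Agent.Sga3.H778 NeutralPts NeutralOpen

theorem gen_ne (z : Spec (CommRingCat.of K)) : gen R K z ≠ IsLocalRing.closedPoint R := by
  intro h
  obtain ⟨a, ha⟩ := IsDiscreteValuationRing.exists_irreducible R
  have h1 : a ∈ (IsLocalRing.closedPoint R).asIdeal := by
    change a ∈ IsLocalRing.maximalIdeal R
    rw [IsLocalRing.mem_maximalIdeal]
    exact ha.not_isUnit
  rw [← h] at h1
  have h2 : algebraMap R K a ∈ PrimeSpectrum.asIdeal z := h1
  have h3 : PrimeSpectrum.asIdeal z = ⊥ := by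
    have : Subsingleton (PrimeSpectrum K) := inferInstance
    have h4 : z = (⊥ : PrimeSpectrum K) := Subsingleton.elim _ _
    rw [h4]
    rfl
  rw [h3, Ideal.mem_bot] at h2
  exact ha.ne_zero (IsFractionRing.injective R K (by rw [h2, map_zero]))

theorem range_gen (X : Over (Spec (CommRingCat.of R))) (y : X.left) (hy : X.hom y ≠ IsLocalRing.closedPoint R) :
    y ∈ Set.range (pullback.fst X.hom (gen R K)) := by
  rw [Scheme.Pullback.range_fst]
  exact Models.DVRGeneric.range_generic R K _ hy

/-- The generic fibre of a group scheme, if connected, lies in the neutral set. -/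
theorem mem_component (N : Over (Spec (CommRingCat.of R))) [GrpObj N]
    (hc : ConnectedSpace (Red.bc (gen R K) N).left) (y : ↥(pullback N.hom (gen R K))) :
    pullback.fst N.hom (gen R K) y ∈ connectedComponentIn (N.hom ⁻¹' {N.hom (pullback.fst N.hom (gen R K) y)})
      (unitSec N (N.hom (pullback.fst N.hom (gen R K) y))) := by
  have h1 : _root_.IsPreconnected (Set.range (pullback.fst N.hom (gen R K))) := by
    have : PreconnectedSpace ↥(pullback N.hom (gen R K)) := hc.toPreconnectedSpace
    exact isPreconnected_range (pullback.fst N.hom (gen R K)).continuous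
  have h2 : N.hom (pullback.fst N.hom (gen R K) y) ≠ IsLocalRing.closedPoint R := by
    rw [← Scheme.Hom.comp_apply, pullback.condition, Scheme.Hom.comp_apply]
    exact gen_ne R K _
  refine h1.subset_connectedComponentIn (range_gen R K N _ (by rw [hom_unitSec]; exact h2)) ?_ ⟨y, rfl⟩
  rintro _ ⟨z, rfl⟩
  change N.hom (pullback.fst N.hom (gen R K) z) = N.hom (pullback.fst N.hom (gen R K) y)
  rw [← Scheme.Hom.comp_apply, ← Scheme.Hom.comp_apply, pullback.condition, Scheme.Hom.comp_apply,
    Scheme.Hom.comp_apply]
  have hsub : Subsingleton (Spec (CommRingCat.of K)) := inferInstanceAs (Subsingleton (PrimeSpectrum K))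
  rw [Subsingleton.elim (pullback.snd N.hom (gen R K) z) (pullback.snd N.hom (gen R K) y)]

/-- The neutral set is open if the generic fibre is connected. -/
theorem isOpen_neutralSet (N : Over (Spec (CommRingCat.of R))) [GrpObj N] [LocallyOfFiniteType N.hom]
    (hc : ConnectedSpace (Red.bc (gen R K) N).left) : IsOpen (SGA3x.neutralSet N) := by
  let s0 : Spec (CommRingCat.of R) := IsLocalRing.closedPoint R
  have hs0 : IsClosed ({s0} : Set (Spec (CommRingCat.of R))) := IsLocalRing.isClosed_singleton_closedPoint R
  have hgen : ∀ x : N.left, N.hom x ≠ s0 → x ∈ SGA3x.neutralSet N := by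
    intro x hx
    obtain ⟨y, rfl⟩ := range_gen R K N x hx
    rw [neutralSet_eq]
    change _ ∈ connectedComponentIn _ _
    exact mem_component R K N hc y
  have hlnf : IsLocallyNoetherian (N.hom.fiber s0) :=
    have : LocallyOfFiniteType (N.hom.fiberToSpecResidueField s0) :=
      inferInstanceAs (LocallyOfFiniteType (pullback.snd _ _))
    LocallyOfFiniteType.isLocallyNoetherian (N.hom.fiberToSpecResidueField s0)
  have hcl := isClosed_fibre_diff N.hom s0 hs0 (unitSec N s0) (hom_unitSec N s0)
  rw [← isClosed_compl_iff]
  convert hcl using 1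
  ext x
  simp only [Set.mem_compl_iff, Set.mem_sdiff]
  constructor
  · intro hx
    have h1 : N.hom x = s0 := by
      by_contra hcon
      exact hx (hgen x hcon)
    refine ⟨h1, fun h2 => hx ?_⟩
    rw [neutralSet_eq]
    change _ ∈ connectedComponentIn _ _
    rw [h1]
    exact h2
  · rintro ⟨h1, h2⟩ hx
    rw [neutralSet_eq] at hx
    change _ ∈ connectedComponentIn _ _ at hx
    have h1' : N.hom x = s0 := h1
    rw [h1'] at hx
    exact h2 hx

omit [IsDomain R] [IsDiscreteValuationRing R] [IsFractionRing R K] in
/-- An open subgroup scheme with surjective inclusion on generic fibres. -/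
theorem isIso_of_range (N : Over (Spec (CommRingCat.of R))) [GrpObj N] (hopen : IsOpen (SGA3x.neutralSet N))
    (hgen : ∀ x : N.left, x ∈ Set.range (pullback.fst N.hom (gen R K)) → x ∈ SGA3x.neutralSet N) :
    IsIso ((Over.pullback (gen R K)).map (opnι N (neutral N hopen))) := by
  have h2 : IsOpenImmersion ((Over.pullback (gen R K)).map (opnι N (neutral N hopen))).left := by
    have h5 := isPullback_map_left (gen R K) (opnι N (neutral N hopen))
    exact MorphismProperty.of_isPullback h5.flip inferInstance
  have h3 : Surjective ((Over.pullback (gen R K)).map (opnι N (neutral N hopen))).left := by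
    constructor
    intro y
    have h5 := (isPullback_map_left (gen R K) (opnι N (neutral N hopen))).flip
    have h7 : pullback.fst N.hom (gen R K) y ∈ Set.range (opnι N (neutral N hopen)).left := by
      have h6 := hgen (pullback.fst N.hom (gen R K) y) ⟨y, rfl⟩
      change _ ∈ Set.range (neutral N hopen).ι
      rw [Scheme.Opens.range_ι]
      exact h6
    obtain ⟨z, hz⟩ := h7
    obtain ⟨w, hw1, hw2⟩ := Scheme.exists_preimage_of_isPullback h5 z y hz
    exact ⟨w, hw2⟩
  have h4 : IsIso ((Over.pullback (gen R K)).map (opnι N (neutral N hopen))).left :=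
    (isIso_iff_isOpenImmersion_and_surjective _).mpr ⟨h2, h3⟩
  have : IsIso ((Over.forget _).map ((Over.pullback (gen R K)).map (opnι N (neutral N hopen)))) := h4
  exact isIso_of_reflects_iso _ (Over.forget _)

theorem exists_connected (H : Over (Spec (CommRingCat.of R))) [GrpObj H] [LocallyOfFiniteType H.hom]
    (A : Over (Spec (CommRingCat.of K))) [GrpObj A] (a : A ⟶ Red.bc (gen R K) H) [IsMonHom a]
    [IsClosedImmersion a.left] [ConnectedSpace A.left] :
    ∃ (N : Over (Spec (CommRingCat.of R))) (_ : GrpObj N) (i : N ⟶ H)
      (e : Grp.mk A ≅ Grp.mk (Red.bc (gen R K) N)), IsMonHom i ∧ IsImmersion i.left ∧ Flat N.hom ∧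
      LocallyOfFinitePresentation N.hom ∧ QuasiCompact N.hom ∧ IsSeparated N.hom ∧
      (∀ s : Spec (CommRingCat.of R), _root_.IsConnected (N.hom.base ⁻¹' {s})) ∧
      (IsAffine A.left → IsAffine N.left) ∧ (und e).hom ≫ (Over.pullback (gen R K)).map i = a := by
  obtain ⟨N, hN, i, e, hi1, hi2, hfl, hei⟩ := exists_closure R K H A a
  have hNft : LocallyOfFiniteType N.hom := by
    rw [← Over.w i]; infer_instance
  have hNfp : LocallyOfFinitePresentation N.hom := inferInstance
  have hcK : ConnectedSpace (Red.bc (gen R K) N).left := by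
    have h1 : IsIso (und e).hom.left := inferInstance
    exact (und e).hom.left.homeomorph.surjective.connectedSpace (und e).hom.left.homeomorph.continuous
  have hopen := isOpen_neutralSet R K N hcK
  obtain ⟨hgrp, hmon⟩ := exists_grpObj N hopen
  have hc := isConnected_fibre N hopen
  have hfl0 : Flat (opn N (neutral N hopen)).hom := by
    change Flat ((neutral N hopen).ι ≫ N.hom)
    infer_instance
  have hfp0 : LocallyOfFinitePresentation (opn N (neutral N hopen)).hom := by
    change LocallyOfFinitePresentation ((neutral N hopen).ι ≫ N.hom)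
    infer_instance
  have hsq := Groth.Agent.S3025.result _ (opn N (neutral N hopen)) hc
  have hiso : IsIso ((Over.pullback (gen R K)).map (opnι N (neutral N hopen))) := by
    refine isIso_of_range R K N hopen ?_
    rintro _ ⟨y, rfl⟩
    rw [neutralSet_eq]
    change _ ∈ connectedComponentIn _ _
    exact mem_component R K N hcK y
  let o : Red.bc (gen R K) (opn N (neutral N hopen)) ≅ Red.bc (gen R K) N :=
    asIso ((Over.pullback (gen R K)).map (opnι N (neutral N hopen)))
  have ho : IsMonHom o.hom := inferInstanceAs (IsMonHom ((Over.pullback (gen R K)).map _))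
  let o' := grpIso o ho
  have ho' : (und o').hom = (Over.pullback (gen R K)).map (opnι N (neutral N hopen)) := rfl
  have hsep := hsq.1
  have hqc := hsq.2
  have hcompat : (und (e ≪≫ o'.symm)).hom ≫ (Over.pullback (gen R K)).map (opnι N (neutral N hopen) ≫ i) = a := by
    have h1 : (und (e ≪≫ o'.symm)).hom = (und e).hom ≫ (und o').inv := rfl
    rw [h1, Functor.map_comp, Category.assoc, ← ho', Iso.inv_hom_id_assoc, hei]
  refine ⟨opn N (neutral N hopen), hgrp, opnι N (neutral N hopen) ≫ i, e ≪≫ o'.symm, inferInstance, ?_, hfl0, hfp0,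
    hqc, hsep, hc, ?_, hcompat⟩
  · rw [Over.comp_left]
    infer_instance
  · intro hA
    refine Groth.Agent.S4109.result R K (opn N (neutral N hopen)) ?_
    have h1 : IsIso (und (e ≪≫ o'.symm)).inv.left := inferInstance
    exact IsAffine.of_isIso (und (e ≪≫ o'.symm)).inv.left

end K412.Clos
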