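import Groth.Agent.AlgGrp.K412.Factor
import Groth.Agent.AlgGrp.K412.Assemble
import Groth.Agent.Sga3B.BcPts

/-!
# Iterated differences of functions on a group scheme

For a function `a` on the group `G` put `D⁰ a (x, g) = a(x)` and `Dⁿ⁺¹ a (x, g) = Dⁿ a (x g, g) - Dⁿ a (x, g)`.
`LU G a` : `Dⁿ a = 0` for some `n`, i.e. the right translations by points of `G` are uniformly unipotent on `a`.
-/

set_option autoImplicit false
universe u

open CategoryTheory CategoryTheory.Limits AlgebraicGeometry MonObj MonoidalCategory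
  CartesianMonoidalCategory GrpObj

namespace K412.Dif

open Groth.Agent

section

variable {S : Scheme.{u}} {G H : Over S} [GrpObj G] [GrpObj H]

/-- Functions on the source of an object over `S`. -/
abbrev Fn (X : Over S) : Type u := Γ(X.left, ⊤)

/-- Pullback of functions. -/
noncomputable abbrev pb {X Y : Over S} (f : X ⟶ Y) : Fn Y →+* Fn X := f.left.appTop.hom

theorem pb_comp {X Y Z : Over S} (f : X ⟶ Y) (g : Y ⟶ Z) (a : Fn Z) : pb (f ≫ g) a = pb f (pb g a) := by
  simp [pb]

/-- The iterated differences. -/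
noncomputable def dif (a : Fn G) : ℕ → ∀ {X : Over S} (_ _ : X ⟶ G), Fn X
  | 0, _, x, _ => pb x a
  | n + 1, _, x, g => dif a n (x * g) g - dif a n x g

theorem dif_comp (a : Fn G) (n : ℕ) {X Y : Over S} (y : Y ⟶ X) (x g : X ⟶ G) :
    dif a n (y ≫ x) (y ≫ g) = pb y (dif a n x g) := by
  induction n generalizing x with
  | zero => exact pb_comp y x a
  | succ n ih =>
    change dif a n ((y ≫ x) * (y ≫ g)) (y ≫ g) - dif a n (y ≫ x) (y ≫ g) =
      pb y (dif a n (x * g) g - dif a n x g)
    rw [← MonObj.comp_mul, ih, ih, map_sub]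

theorem dif_hom (f : H ⟶ G) [IsMonHom f] (a : Fn G) (n : ℕ) {X : Over S} (x g : X ⟶ H) :
    dif a n (x ≫ f) (g ≫ f) = dif (pb f a) n x g := by
  induction n generalizing x with
  | zero => exact pb_comp x f a
  | succ n ih =>
    change dif a n ((x ≫ f) * (g ≫ f)) (g ≫ f) - dif a n (x ≫ f) (g ≫ f) =
      dif (pb f a) n (x * g) g - dif (pb f a) n x g
    rw [← MonObj.mul_comp, ih, ih]

variable (G) in
/-- Right translations are uniformly unipotent on the function `a`. -/
def LU (a : Fn G) : Prop := ∃ n, dif a n (fst G G) (snd G G) = 0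

theorem LU.all {a : Fn G} (h : LU G a) : ∃ n, ∀ {X : Over S} (x g : X ⟶ G), dif a n x g = 0 := by
  obtain ⟨n, hn⟩ := h
  refine ⟨n, fun {X} x g => ?_⟩
  have h1 := dif_comp a n (lift x g) (fst G G) (snd G G)
  rwa [lift_fst, lift_snd, hn, map_zero] at h1

theorem LU.comap {a : Fn G} (h : LU G a) (f : H ⟶ G) [IsMonHom f] : LU H (pb f a) := by
  obtain ⟨n, hn⟩ := h.all
  exact ⟨n, by rw [← dif_hom, hn]⟩

end

section bc

variable {S S' : Scheme.{u}} (f : S' ⟶ S) {G : Over S} [GrpObj G]

open Factor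

/-- The function on the base change. -/
noncomputable abbrev fnBc (a : Fn G) : Fn (Red.bc f G) := (pullback.fst G.hom f).appTop.hom a

theorem dif_bc (a : Fn G) (n : ℕ) {X : Over S'} (x g : X ⟶ Red.bc f G) :
    dif (fnBc f a) n x g = dif a n ((Over.map f).map x ≫ pr f G) ((Over.map f).map g ≫ pr f G) := by
  induction n generalizing x with
  | zero =>
    change pb x (fnBc f a) = pb ((Over.map f).map x ≫ pr f G) a
    rw [pb_comp]
    change x.left.appTop.hom ((pullback.fst G.hom f).appTop.hom a) = x.left.appTop.hom ((pr f G).left.appTop.hom a)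
    rw [pr_left]
  | succ n ih =>
    have h1 : (Over.map f).map (x * g) ≫ pr f G =
        ((Over.map f).map x ≫ pr f G) * ((Over.map f).map g ≫ pr f G) := by
      have h2 : ∀ y : X ⟶ Red.bc f G, (Over.map f).map y ≫ pr f G = (Sga3B.BcPts.bcMulEquiv f X G).symm y :=
        fun y => ((Over.mapPullbackAdj f).homEquiv_counit X G y).symm
      rw [h2, h2, h2, map_mul]
    change dif (fnBc f a) n (x * g) g - dif (fnBc f a) n x g =
      dif a n (((Over.map f).map x ≫ pr f G) * ((Over.map f).map g ≫ pr f G)) _ - dif a n _ _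
    rw [ih, ih, h1]

theorem LU.bc {a : Fn G} (h : LU G a) : LU (Red.bc f G) (fnBc f a) := by
  obtain ⟨n, hn⟩ := h.all
  exact ⟨n, by rw [dif_bc, hn]⟩

theorem LU.of_dominant [QuasiCompact f] [IsSchemeTheoreticallyDominant f] [Flat G.hom] {a : Fn G}
    (h : LU (Red.bc f G) (fnBc f a)) : LU G a := by
  obtain ⟨n, hn⟩ := h.all
  refine ⟨n, ?_⟩
  have hfl : Flat (G ⊗ G).hom := by
    have h1 : (G ⊗ G).hom = pullback.fst G.hom G.hom ≫ G.hom := rfl
    rw [h1]
    infer_instance
  have h1 := dif_comp a n (pr f (G ⊗ G)) (fst G G) (snd G G)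
  rw [← pr_naturality, ← pr_naturality, ← dif_bc, hn] at h1
  have h2 : Function.Injective (pb (pr f (G ⊗ G))) :=
    (pr f (G ⊗ G)).left.app_injective ⊤
  apply h2
  rw [← h1, map_zero]

end bc

end K412.Dif
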