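import Groth.Agent.Sga3B.DimFib

/-!
# Dimensions of base changes to fields
-/

set_option autoImplicit false
open CategoryTheory MonoidalCategory CartesianMonoidalCategory MonObj GrpObj AlgebraicGeometry Limits
open IsLocalRing
universe u

namespace K412.Dim

/-- The dimension of the base change along a field valued point is the dimension of the fibre. -/
theorem dim_pt {X S : Scheme.{u}} (f : X ⟶ S) [LocallyOfFiniteType f] {K : Type u} [Field K]
    (x : Spec (CommRingCat.of K) ⟶ S) :
    topologicalKrullDim ↥(pullback f x) = topologicalKrullDim ↥(f.base ⁻¹' {x (closedPoint K)}) := by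
  have h1 : topologicalKrullDim (f.fiber (x (closedPoint K))) = topologicalKrullDim (f ⁻¹' {x (closedPoint K)}) :=
    IsHomeomorph.topologicalKrullDim_eq (f.fiberHomeo _) (f.fiberHomeo _).isHomeomorph
  refine Eq.trans ?_ h1
  obtain ⟨s, hs⟩ : ∃ s, s = x (closedPoint K) := ⟨_, rfl⟩
  obtain ⟨b, hb⟩ : ∃ b : Spec (CommRingCat.of K) ⟶ Spec (S.residueField s), b ≫ S.fromSpecResidueField s = x := by
    subst hs
    exact ⟨_, Scheme.descResidueField_stalkClosedPointTo_fromSpecResidueField K S x⟩
  rw [← hs]
  have sq1 : IsPullback (pullback.fst f (S.fromSpecResidueField s)) (pullback.snd f (S.fromSpecResidueField s))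
      f (S.fromSpecResidueField s) := IsPullback.of_hasPullback _ _
  have sq2 : IsPullback (pullback.fst f x) (pullback.snd f x) f x :=
    IsPullback.of_hasPullback _ _
  have sq3 : IsPullback (sq1.lift (pullback.fst f x) (pullback.snd f x ≫ b)
      (by rw [Category.assoc, hb]; exact sq2.w))
      (pullback.snd f x) (pullback.snd f (S.fromSpecResidueField s)) b := by
    refine IsPullback.of_right (t := sq1) ?_ (by simp)
    rw [IsPullback.lift_fst, hb]
    exact sq2
  have h0 : LocallyOfFiniteType (pullback.snd f (S.fromSpecResidueField s)) := inferInstance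
  exact @Groth.Agent.Sga3B.DimFib.topologicalKrullDim_baseChange_eq (S.residueField s)
    (CommRingCat.of K) (Field.toIsField _) (Field.toIsField _) _ _
    (pullback.snd f (S.fromSpecResidueField s)) h0 b _ _ sq3

/-- The dimensions of the fibres of a flat group scheme at two points one of which specializes to the other. -/
theorem dim_eq {S : Scheme.{u}} (G : Over S) [GrpObj G] [Flat G.hom] [LocallyOfFinitePresentation G.hom]
    {K k : Type u} [Field K] [Field k] (x : Spec (CommRingCat.of K) ⟶ S) (y : Spec (CommRingCat.of k) ⟶ S)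
    (h : x (closedPoint K) ⤳ y (closedPoint k)) :
    topologicalKrullDim ↥(Red.bc x G).left = topologicalKrullDim ↥(Red.bc y G).left := by
  have h1 : topologicalKrullDim ↥(Red.bc x G).left = topologicalKrullDim ↥(G.hom.base ⁻¹' {x (closedPoint K)}) :=
    dim_pt G.hom x
  have h2 : topologicalKrullDim ↥(Red.bc y G).left = topologicalKrullDim ↥(G.hom.base ⁻¹' {y (closedPoint k)}) :=
    dim_pt G.hom y
  rw [h1, h2]
  have h3 := Groth.Agent.S3022.result S G
  have h4 := h3 {topologicalKrullDim ↥(G.hom.base ⁻¹' {y (closedPoint k)})}
  exact h.mem_open h4 rfl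

/-- The point of an injective homomorphism to a field is the generic one. -/
theorem specializes_of_injective {R K : Type u} [CommRing R] [Field K] (φ : R →+* K)
    (hφ : Function.Injective φ) (p : Spec (CommRingCat.of R)) :
    (Spec.map (CommRingCat.ofHom φ)) (closedPoint K) ⤳ p := by
  have h1 : ∀ q : PrimeSpectrum R, PrimeSpectrum.comap φ (closedPoint K) ≤ q := by
    intro q a ha
    have h2 : φ a ∈ (closedPoint K).asIdeal := ha
    have h3 : (closedPoint K).asIdeal = ⊥ := by
      rw [closedPoint]
      exact IsLocalRing.maximalIdeal_eq_bot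
    rw [h3, Ideal.mem_bot] at h2
    have h4 : a = 0 := hφ (by rw [h2, map_zero])
    rw [h4]
    exact zero_mem _
  exact (PrimeSpectrum.le_iff_specializes _ p).mp (h1 p)

end K412.Dim
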