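import Groth.Agent.S3037
import Groth.Agent.AlgGrp.K398.Pts
import Groth.Agent.AlgGrp.K414.Kit

/-!
# Homomorphisms with finite kernel

* `isFinite_left`: a homomorphism of algebraic groups over a field with finite kernel is finite;
* `isFinite_of_hom`: an affine algebraic group with a homomorphism with finite kernel to a proper one is finite.
-/

set_option autoImplicit false
universe u
open CategoryTheory Limits MonoidalCategory CartesianMonoidalCategory MonObj GrpObj AlgebraicGeometry
open Groth.Agent

namespace K412.FinKer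

variable {k : Type u} [Field k]

theorem discreteTopology_of_isFinite {Z : Scheme.{u}} (g : Z ⟶ Spec (CommRingCat.of k)) [IsFinite g] :
    DiscreteTopology Z := by
  have hA : IsAffine Z := isAffine_of_isAffineHom g
  let φ : k →+* Γ(Z, ⊤) := ((Scheme.ΓSpecIso (CommRingCat.of k)).inv ≫ g.appTop).hom
  have h1 : g.appTop.hom.Finite := g.finite_appTop
  have hφ : φ.Finite := by
    have h2 : (Scheme.ΓSpecIso (CommRingCat.of k)).inv.hom.Finite :=
      RingHom.Finite.of_surjective _ (ConcreteCategory.bijective_of_isIso
        (Scheme.ΓSpecIso (CommRingCat.of k)).inv).2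
    exact h1.comp h2
  algebraize [φ]
  have : IsArtinianRing Γ(Z, ⊤) := IsArtinianRing.of_finite k Γ(Z, ⊤)
  have : DiscreteTopology (Spec Γ(Z, ⊤)) := inferInstanceAs (DiscreteTopology (PrimeSpectrum Γ(Z, ⊤)))
  exact Z.isoSpec.hom.homeomorph.symm.discreteTopology

theorem isFinite_left {G H N : Over (Spec (CommRingCat.of k))} [GrpObj G] [GrpObj H] [LocallyOfFiniteType G.hom]
    [LocallyOfFiniteType H.hom] [QuasiCompact G.hom] (u : G ⟶ H) [IsMonHom u] (n : N ⟶ G)
    (hN : AlgGrp.IsKernel n u) (hf : IsFinite N.hom) : IsFinite u.left := by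
  have hq : QuasiCompact u.left := K398.Pts.quasiCompact_left u
  rw [Groth.Agent.S3037.result k G H u]
  have h1 : IsPullback n.left (toUnit N).left u.left (η[H] : 𝟙_ (Over (Spec (CommRingCat.of k))) ⟶ H).left :=
    hN.map (Over.forget _)
  have h2 : DiscreteTopology N.left := discreteTopology_of_isFinite N.hom
  exact h1.isoPullback.hom.homeomorph.discreteTopology

theorem isFinite_of_hom {G H N : Over (Spec (CommRingCat.of k))} [GrpObj G] [GrpObj H] [LocallyOfFiniteType G.hom]
    [IsAffine G.left] [IsProper H.hom] (u : G ⟶ H) [IsMonHom u] (n : N ⟶ G)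
    (hN : AlgGrp.IsKernel n u) (hf : IsFinite N.hom) : IsFinite G.hom := by
  have hq : QuasiCompact G.hom := inferInstance
  have h1 := isFinite_left u n hN hf
  rw [IsFinite.iff_isProper_and_isAffineHom]
  refine ⟨?_, inferInstance⟩
  rw [← Over.w u]
  infer_instance

end K412.FinKer
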