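import Groth.Agent.AlgGrp.K395.CovKit
import Groth.Agent.AlgGrp.K395.Pts
import Groth.Agent.AlgGrp.K398.Pts
import Groth.Agent.AlgGrp.K402.Quo
import Groth.Agent.AlgGrp.K402.Comm
import Groth.Agent.Sga3.H821.ExtConn
import Groth.Agent.S3028
import Groth.Agent.S3031
import Groth.Agent.Flat2B.SmoothGeom

/-!
# The subgroup generated by a smooth connected subgroup and the derived group

`exists_sub`: `d : D ⟶ G` a closed normal subgroup containing the commutators, `v : R ⟶ G` a homomorphism, `D` and `R`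
smooth and connected: `E = R D` is a closed normal smooth connected subgroup, the kernel of a quotient of `G`.
-/

set_option autoImplicit false
universe u

open CategoryTheory CategoryTheory.Limits AlgebraicGeometry MonObj MonoidalCategory
  CartesianMonoidalCategory GrpObj

namespace K412.Gug

open Groth.Agent Groth.Agent.Sga3.H739.Fpqc Groth.Agent.Sga3B

theorem comm_of_cov {S : Scheme.{u}} {G Q : Over S} [GrpObj G] [GrpObj Q] (q : G ⟶ Q) [IsMonHom q] (hq : Cov q)
    (h : ∀ (T : Over S) (x y : T ⟶ G), (x * y) ≫ q = (y * x) ≫ q) {T : Over S} (a b : T ⟶ Q) : a * b = b * a := by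
  obtain ⟨T₁, t₁, x, ht₁, hx⟩ := hq.exists_local a
  obtain ⟨T₂, t₂, y, ht₂, hy⟩ := hq.exists_local (t₁ ≫ b)
  apply (ht₂.comp ht₁).cancel
  rw [MonObj.comp_mul, MonObj.comp_mul, Category.assoc, Category.assoc, ← hx, ← hy, ← Category.assoc t₂ x,
    ← MonObj.mul_comp, ← MonObj.mul_comp]
  exact h _ _ _

variable {k : Type u} [Field k]

theorem exists_sub {G D R : Over (Spec (CommRingCat.of k))} [GrpObj G] [GrpObj D] [GrpObj R]
    [Smooth G.hom] [QuasiCompact G.hom] [ConnectedSpace ↥G.left]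
    (d : D ⟶ G) [IsMonHom d] [IsClosedImmersion d.left] (hDn : AlgGrp.IsNormalHom d)
    (hD : ∀ (T : Over (Spec (CommRingCat.of k))) (g g' : T ⟶ G), ∃ m : T ⟶ D, g * g' * g⁻¹ * g'⁻¹ = m ≫ d)
    [Smooth D.hom] [ConnectedSpace ↥D.left]
    (v : R ⟶ G) [IsMonHom v] [Smooth R.hom] [QuasiCompact R.hom] [ConnectedSpace ↥R.left] :
    ∃ (E : Over (Spec (CommRingCat.of k))) (_ : GrpObj E) (e : E ⟶ G) (Q : Over (Spec (CommRingCat.of k)))
      (_ : GrpObj Q) (q : G ⟶ Q), IsMonHom e ∧ IsClosedImmersion e.left ∧ Smooth E.hom ∧ ConnectedSpace ↥E.left ∧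
      AlgGrp.IsNormalHom e ∧ IsMonHom q ∧ Surjective q.left ∧ Flat q.left ∧ AlgGrp.IsKernel e q ∧
      QuasiCompact Q.hom ∧ Smooth Q.hom ∧ ConnectedSpace ↥Q.left ∧
      (∀ (T : Over (Spec (CommRingCat.of k))) (a b : T ⟶ Q), a * b = b * a) ∧ v ≫ q = 1 ∧
      Set.range e.left ⊆ Set.range ((v ⊗ₘ d) ≫ μ[G]).left := by
  obtain ⟨C, _, q₁, m1, s1, f1, k1, l1, c1, sm1⟩ := K402.Quo.exists_quotient d hDn
  have hC : Smooth C.hom := sm1 inferInstance
  have hCc : ConnectedSpace C.left := K402.Quo.connected_of_surjective q₁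
  have hcov : Cov q₁ := K395.CovKit.cov_of q₁
  have hcomm : ∀ (T : Over (Spec (CommRingCat.of k))) (a b : T ⟶ C), a * b = b * a := fun T a b =>
    comm_of_cov q₁ hcov (fun T x y => by
      obtain ⟨m, hm⟩ := hD T x y
      have h1 : (x * y * x⁻¹ * y⁻¹) ≫ q₁ = 1 := by rw [hm]; exact K395.Pts.comp_eq_one k1 m
      have h2 : x * y = (x * y * x⁻¹ * y⁻¹) * (y * x) := by group
      rw [h2, MonObj.mul_comp, h1, _root_.one_mul]) a b
  obtain ⟨R', _, p, r', mp, mr, hpr, fp, sp, -, hcl⟩ := K398.Pts.exists_image (v ≫ q₁)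
  have lR : LocallyOfFiniteType R'.hom := by rw [← Over.w r']; infer_instance
  have hR' : Smooth R'.hom := K402.Quo.smooth_of_quotient p
  have hR'c : ConnectedSpace R'.left := K402.Quo.connected_of_surjective p
  have hrn : AlgGrp.IsNormalHom r' := fun T g n => ⟨n, by rw [hcomm T g, mul_inv_cancel_right]⟩
  obtain ⟨C', _, q₂, m2, s2, f2, k2, l2, c2, sm2⟩ := K402.Quo.exists_quotient r' hrn
  have hC' : Smooth C'.hom := sm2 inferInstance
  have hC'c : ConnectedSpace C'.left := K402.Quo.connected_of_surjective q₂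
  have hsep : IsSeparated C'.hom := Books.AntiAffine.isSeparated_hom C'
  have hcov2 : Cov q₂ := K395.CovKit.cov_of q₂
  have hcomm' : ∀ (T : Over (Spec (CommRingCat.of k))) (a b : T ⟶ C'), a * b = b * a := fun T a b =>
    comm_of_cov q₂ hcov2 (fun T x y => by rw [hcomm]) a b
  let q : G ⟶ C' := q₁ ≫ q₂
  have hqs : Surjective q.left := by
    change Surjective (q₁ ≫ q₂).left
    rw [Over.comp_left]; infer_instance
  have hqf : Flat q.left := by
    change Flat (q₁ ≫ q₂).left
    rw [Over.comp_left]; infer_instance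
  have hqm : IsMonHom q := inferInstanceAs (IsMonHom (q₁ ≫ q₂))
  obtain ⟨_, hem⟩ := KerGrp.exists_grpObj q
  let E := KerGrp.kerObj q
  let e : E ⟶ G := KerGrp.kerι q
  have hec : IsClosedImmersion e.left := inferInstanceAs (IsClosedImmersion (KerGrp.kerι q).left)
  have hK : AlgGrp.IsKernel e q := KerGrp.isPullback_ker q
  have hen : AlgGrp.IsNormalHom e := Sga3.H821.AffProper.isNormalHom_of_isKernel k e q hK
  -- `E ⟶ R'`
  obtain ⟨w, hw⟩ := K395.Pts.exists_of_comp_eq_one k2 (e ≫ q₁) (by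
    rw [Category.assoc]; exact KerGrp.kerι_comp q)
  have hrm : Mono r' := Books.AlgPtsGrp.mono_of_isClosedImmersion r'
  have hem' : Mono e := Books.AlgPtsGrp.mono_of_isClosedImmersion e
  have hdm : Mono d := Books.AlgPtsGrp.mono_of_isClosedImmersion d
  have hwm : IsMonHom w := by
    have : IsMonHom (w ≫ r') := by rw [hw]; infer_instance
    exact Sga3C.SubGrp.isMonHom_of_comp_mono w r'
  have hlift : ∀ s : PullbackCone q₁ r', ∃ n : s.pt ⟶ E, n ≫ e = s.fst := fun s =>
    K395.Pts.exists_of_comp_eq_one hK s.fst (by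
      change s.fst ≫ q₁ ≫ q₂ = 1
      rw [← Category.assoc, s.condition]
      exact K395.Pts.comp_eq_one k2 s.snd)
  choose lf hlf using hlift
  have hsq : IsPullback e w q₁ r' := by
    refine ⟨⟨hw.symm⟩, ⟨PullbackCone.IsLimit.mk _ lf hlf ?_ ?_⟩⟩
    · intro s
      rw [← cancel_mono r', Category.assoc, hw, ← Category.assoc, hlf, s.condition]
    · intro s m h1 h2
      rw [← cancel_mono e, h1, hlf]
  have hsq' := hsq.map (Over.forget _)
  have hws : Surjective w.left := MorphismProperty.of_isPullback (P := @Surjective) hsq' s1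
  have hwf : Flat w.left := MorphismProperty.of_isPullback (P := @Flat) hsq' f1
  obtain ⟨a, ha⟩ := K395.Pts.exists_of_comp_eq_one hK d (by
    change d ≫ q₁ ≫ q₂ = 1
    rw [← Category.assoc]
    have h1 : d ≫ q₁ = 1 := by
      have := K395.Pts.comp_eq_one k1 (𝟙 D)
      rwa [Category.id_comp] at this
    rw [h1, MonObj.one_comp])
  have ham : Mono a := mono_of_mono_fac ha
  have hKa : AlgGrp.IsKernel a w := by
    refine K395.Pts.isKernel_of_pts (fun T n => ?_) (fun T x hx => ?_)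
    · rw [← cancel_mono r', Category.assoc, Category.assoc, hw, ← Category.assoc a, ha, MonObj.one_comp,
        ← Category.assoc]
      exact K395.Pts.comp_eq_one k1 n
    · obtain ⟨n, hn⟩ := K395.Pts.exists_of_comp_eq_one k1 (x ≫ e) (by
        rw [Category.assoc, ← hw, ← Category.assoc, hx, MonObj.one_comp])
      exact ⟨n, by rw [← cancel_mono e, Category.assoc, ha, hn]⟩
  have hEq : QuasiCompact E.hom := by rw [← Over.w e]; infer_instance
  have hR'sep : IsSeparated R'.hom := Books.AntiAffine.isSeparated_hom R'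
  obtain ⟨-, -, hEs, hEc⟩ := Sga3.H821.ExtConn.smooth_connected a w hKa
  refine ⟨E, inferInstance, e, C', inferInstance, q, hem, hec, hEs, hEc, hen, hqm, hqs, hqf, hK, c2, hC', hC'c,
    hcomm', ?_, ?_⟩
  · change v ≫ q₁ ≫ q₂ = 1
    rw [← Category.assoc, ← hpr]
    exact K395.Pts.comp_eq_one k2 p
  · -- the range
    have h1 : IsPullback (pullback.fst p w) (pullback.snd p w) p w := IsPullback.of_hasPullback p w
    have h2 : Surjective (pullback.snd p w).left :=
      MorphismProperty.of_isPullback (P := @Surjective) (h1.map (Over.forget _)) sp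
    obtain ⟨n, hn⟩ := K395.Pts.exists_of_comp_eq' k1 (pullback.snd p w ≫ e) (pullback.fst p w ≫ v) (by
      rw [Category.assoc, Category.assoc, ← hpr, ← hw, pullback.condition_assoc])
    rintro _ ⟨x, rfl⟩
    obtain ⟨y, rfl⟩ := h2.surj x
    refine ⟨(lift (pullback.fst p w) n).left y, ?_⟩
    have h3 : pullback.snd p w ≫ e = lift (pullback.fst p w) n ≫ (v ⊗ₘ d) ≫ μ[G] := by
      rw [hn, Hom.mul_def, lift_map_assoc]
    have h4 := congr(($h3).left y)
    rw [Over.comp_left, Over.comp_left, Scheme.Hom.comp_apply, Scheme.Hom.comp_apply] at h4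
    exact h4.symm

/-- The derived group of a smooth connected group is smooth and connected. -/
theorem smooth_derived {G D : Over (Spec (CommRingCat.of k))} [GrpObj G] [GrpObj D]
    [Smooth G.hom] [QuasiCompact G.hom] [ConnectedSpace ↥G.left]
    (d : D ⟶ G) [IsMonHom d] [IsClosedImmersion d.left]
    (hD : ∀ (T : Over (Spec (CommRingCat.of k))) (g g' : T ⟶ G), ∃ m : T ⟶ D, g * g' * g⁻¹ * g'⁻¹ = m ≫ d)
    (hDmin : ∀ (D' : Over (Spec (CommRingCat.of k))) [GrpObj D'] (d' : D' ⟶ G) [IsMonHom d'] [IsClosedImmersion d'.left],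
      AlgGrp.IsNormalHom d' → (∀ (T : Over (Spec (CommRingCat.of k))) (g g' : T ⟶ G), ∃ m : T ⟶ D', g * g' * g⁻¹ * g'⁻¹ = m ≫ d') →
      ∃ f : D ⟶ D', f ≫ d' = d) : Smooth D.hom ∧ ConnectedSpace ↥D.left := by
  have hgc := Sga3.H821.ChevDesc.geometricallyConnected G
  have h1 : Smooth (G ⊗ G).hom := inferInstanceAs (Smooth (pullback.fst G.hom G.hom ≫ G.hom))
  have h2 : ConnectedSpace ↥(G ⊗ G).left := inferInstanceAs (ConnectedSpace ↥(pullback G.hom G.hom))
  have h3 : GeometricallyReduced (G ⊗ G).hom := Flat2B.SmoothGeom.geometricallyReduced_of_smooth _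
  let c : G ⊗ G ⟶ G := fst G G * snd G G * (fst G G)⁻¹ * (snd G G)⁻¹
  obtain ⟨Γ, _, i, hi, hic, hf, hgr, hmin⟩ := Groth.Agent.S3028.result k G (G ⊗ G) c
  have hΓc : ConnectedSpace Γ.left := Groth.Agent.S3031.result k G (G ⊗ G) (lift η[G] η[G]) c (by
    simp only [c]
    rw [MonObj.comp_mul, MonObj.comp_mul, MonObj.comp_mul, GrpObj.comp_inv, GrpObj.comp_inv, lift_fst, lift_snd]
    rw [mul_inv_cancel_right, mul_inv_cancel]
    exact (one_eq_one G).symm) Γ i hf hmin
  obtain ⟨f', hf'⟩ := hf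
  have hcomm : ∀ (T : Over (Spec (CommRingCat.of k))) (g g' : T ⟶ G), ∃ m : T ⟶ Γ, g * g' * g⁻¹ * g'⁻¹ = m ≫ i := by
    intro T g g'
    refine ⟨lift g g' ≫ f', ?_⟩
    rw [Category.assoc, hf']
    simp only [c]
    rw [MonObj.comp_mul, MonObj.comp_mul, MonObj.comp_mul, GrpObj.comp_inv, GrpObj.comp_inv, lift_fst, lift_snd]
  have hn : AlgGrp.IsNormalHom i := by
    intro T g n
    obtain ⟨m, hm⟩ := hcomm T g (n ≫ i)
    refine ⟨m * n, ?_⟩
    rw [MonObj.mul_comp, ← hm, inv_mul_cancel_right]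
  obtain ⟨a, ha⟩ := hDmin Γ i hn hcomm
  obtain ⟨b, hb⟩ := hmin D inferInstance d inferInstance inferInstance (by
    obtain ⟨m, hm⟩ := hD (G ⊗ G) (fst G G) (snd G G)
    exact ⟨m, hm.symm⟩)
  have hi' : Mono i := Books.AlgPtsGrp.mono_of_isClosedImmersion i
  have hd' : Mono d := Books.AlgPtsGrp.mono_of_isClosedImmersion d
  let e : Γ ≅ D := ⟨b, a, by rw [← cancel_mono i, Category.assoc, ha, hb, Category.id_comp],
    by rw [← cancel_mono d, Category.assoc, hb, ha, Category.id_comp]⟩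
  have hel : IsIso e.hom.left := inferInstanceAs (IsIso ((Over.forget _).mapIso e).hom)
  have hel' : IsIso e.inv.left := inferInstanceAs (IsIso ((Over.forget _).mapIso e).inv)
  have hΓl : LocallyOfFiniteType Γ.hom := by rw [← Over.w i]; infer_instance
  have hΓs : Smooth Γ.hom := by
    let g : Spec (CommRingCat.of (AlgebraicClosure k)) ⟶ Spec (CommRingCat.of k) :=
      Spec.map (CommRingCat.ofHom (algebraMap k (AlgebraicClosure k)))
    have h4 : IsReduced (Red.bc g Γ).left :=
      hgr.geometrically_isReduced _ _ _ (IsPullback.of_hasPullback Γ.hom g)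
    have h5 : LocallyOfFiniteType (Red.bc g Γ).hom :=
      inferInstanceAs (LocallyOfFiniteType (pullback.snd Γ.hom g))
    exact K402.Quo.of_bc_hom g @Smooth (Books.AlgPtsSmooth.smooth_of_isReduced (Red.bc g Γ))
  constructor
  · rw [← Over.w e.inv]; infer_instance
  · exact (Surjective.surj (f := e.hom.left)).connectedSpace e.hom.left.continuous

end K412.Gug
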