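import Groth.Agent.AlgGrp.K412.Assemble

/-!
# Closed subgroups over a field come from a finitely generated subalgebra

`exists_model`: `A` an algebra over the ring `k`, `G` of finite presentation over `k`, `H` a flat closed subgroup of
finite presentation of `G_A`. Then there are a finitely generated `k`-subalgebra `B` of `A` and a flat closed subgroup
scheme `N` of `G_B` with `N_A = H`.
-/

set_option autoImplicit false
universe u

open CategoryTheory CategoryTheory.Limits AlgebraicGeometry MonObj MonoidalCategory
  CartesianMonoidalCategory GrpObj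

namespace K412.Model

open Groth.Agent.Ega43.LimitDescend Groth.Agent.VarietyA.AmpleBC1 Stage Tower
open Groth.Agent.Sga3B.RedIso (und)

theorem tower_compat {k A : Type u} [CommRing k] [CommRing A] [Algebra k A] (B : Subalgebra k A) :
    sp (algebraMap B A) ≫ sp (algebraMap k B) = sp (algebraMap k A) := by
  rw [sp_comp]; rfl

/-- A flat closed subscheme of finite presentation of a base change comes from a finitely generated
subalgebra. -/
theorem exists_scheme {k A : Type u} [CommRing k] [CommRing A] [Algebra k A]
    (G : Over (Spec (CommRingCat.of k))) [LocallyOfFinitePresentation G.hom] [QuasiCompact G.hom]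
    [QuasiSeparated G.hom] (H : Over (Spec (CommRingCat.of A)))
    (i : H ⟶ Red.bc (sp (algebraMap k A)) G) [IsClosedImmersion i.left] [Flat H.hom]
    [LocallyOfFinitePresentation i.left] :
    ∃ (B : Subalgebra k A) (_ : B.FG) (N : Over (Spec (CommRingCat.of B)))
      (ν : N ⟶ Red.bc (sp (algebraMap k B)) G) (e : H.left ⟶ N.left),
      IsClosedImmersion ν.left ∧ LocallyOfFinitePresentation ν.left ∧ Flat N.hom ∧
      (IsAffine H.left → IsAffine N.left) ∧
      IsPullback e H.hom N.hom (sp (algebraMap B A)) ∧
      e ≫ ν.left ≫ pullback.fst G.hom (sp (algebraMap k B)) = i.left ≫ pullback.fst G.hom (sp (algebraMap k A)) := by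
  have i1 : ∀ j, CompactSpace ((specDiagram k A).obj j) := fun j => inferInstance
  have i2 : ∀ j, QuasiSeparatedSpace ((specDiagram k A).obj j) := fun j => inferInstance
  let H' : Over (specCone k A).pt := H
  have hH' : Flat H'.hom := ‹Flat H.hom›
  let p' : (specCone k A).pt ⟶ Spec (CommRingCat.of k) := sp (algebraMap k A)
  let i' : H' ⟶ Red.bc p' G := i
  have hi1 : IsClosedImmersion i'.left := ‹IsClosedImmersion i.left›
  have hi2 : LocallyOfFinitePresentation i'.left := ‹LocallyOfFinitePresentation i.left›
  obtain ⟨j, M, hfl, haff⟩ := exists_flat_closed (specCone k A) (isLimitSpecCone k A) (specT k A)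
    (fun φ => specT_w k A φ) p' (fun j => specCone_π_specT k A j) G H' i'
  exact ⟨j.unop.1, j.unop.2, M.N, M.ν, M.e, M.cl, M.lfp, hfl, haff, M.pb, M.w⟩

/-- A flat closed subgroup scheme of finite presentation of a base change comes from a finitely generated
subalgebra. -/
theorem exists_model {k A : Type u} [CommRing k] [CommRing A] [Algebra k A]
    (G : Over (Spec (CommRingCat.of k))) [GrpObj G] [LocallyOfFinitePresentation G.hom] [QuasiCompact G.hom]
    [QuasiSeparated G.hom] (H : Over (Spec (CommRingCat.of A))) [GrpObj H]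
    (i : H ⟶ Red.bc (sp (algebraMap k A)) G) [IsMonHom i] [IsClosedImmersion i.left] [Flat H.hom]
    [LocallyOfFinitePresentation i.left] :
    ∃ (B : Subalgebra k A) (_ : B.FG) (N : Over (Spec (CommRingCat.of B))) (_ : GrpObj N)
      (ν : N ⟶ Red.bc (sp (algebraMap k B)) G) (e : Grp.mk H ≅ Grp.mk (Red.bc (sp (algebraMap B A)) N)),
      IsMonHom ν ∧ IsClosedImmersion ν.left ∧ Flat N.hom ∧ LocallyOfFinitePresentation N.hom ∧
      QuasiCompact N.hom ∧ (IsAffine H.left → IsAffine N.left) ∧
      (und e).hom ≫ (Over.pullback (sp (algebraMap B A))).map ν = i ≫ (und (tower (tower_compat B) G)).hom := by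
  obtain ⟨B, hB, N, ν, e, hνcl, hνlfp, hNfl, haff, hpb, hw⟩ := exists_scheme G H i
  have hmono : Fact (Function.Injective (algebraMap B A)) := ⟨Subtype.val_injective⟩
  obtain ⟨hg, e', hm, he'⟩ := Assemble.exists_grp (tower_compat B) G H i N ν e hpb hw
  refine ⟨B, hB, N, hg, ν, e', hm, hνcl, hNfl, ?_, ?_, haff, he'⟩
  · rw [← Over.w ν]
    change LocallyOfFinitePresentation (ν.left ≫ pullback.snd G.hom (sp (algebraMap k B)))
    infer_instance
  · rw [← Over.w ν]
    change QuasiCompact (ν.left ≫ pullback.snd G.hom (sp (algebraMap k B)))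
    infer_instance

end K412.Model
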