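import Groth.Agent.AlgGrp.K412.Clos
import Groth.Agent.AlgGrp.K412.Model
import Groth.Agent.AlgGrp.K412.Dim
import Groth.Agent.Sga3B.RedIdComp
import Groth.Agent.Sga3C.DimTop
import Groth.Agent.Sga3C.LocConn
import Groth.Agent.Localalg.GrpDim
import Groth.Agent.Books.AntiAffine

/-!
# Subgroups of large dimension: change of algebraically closed field

`Good P aff` : the property `P` of algebraic groups over algebraically closed fields passes to closed subgroups and
from the geometric generic fibre of a flat (affine, if `aff`) group scheme over a domain to all geometric fibres.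
`Q P aff n K G` : `G` has a closed, smooth, connected (affine, if `aff`) subgroup with `P` of dimension at least `n`.

* `q_of_domain` : passage from the geometric generic fibre of a flat group scheme over a domain to all geometric fibres;
* `q_bc_iff` : `Q` is invariant under extensions of algebraically closed fields.
-/

set_option autoImplicit false
universe u

open CategoryTheory CategoryTheory.Limits AlgebraicGeometry MonObj MonoidalCategory
  CartesianMonoidalCategory GrpObj

namespace K412.Machine

open Groth.Agent Stage Tower Books.AlgPts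
open Groth.Agent.Sga3B.RedIso (und)

/-- A closed subscheme of an algebraic group with underlying space the neutral component has the same dimension. -/
theorem dim_neutral {k : Type u} [Field k] [IsAlgClosed k] (A U : Over (Spec (CommRingCat.of k))) [GrpObj A]
    [LocallyOfFiniteType A.hom] (u : U ⟶ A) [IsClosedImmersion u.left]
    (hu : Set.range u.left = connectedComponent (pt η[A])) :
    topologicalKrullDim U.left = topologicalKrullDim A.left := by
  have hN1 : IsLocallyNoetherian A.left := LocallyOfFiniteType.isLocallyNoetherian A.hom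
  have hJ : JacobsonSpace A.left := LocallyOfFiniteType.jacobsonSpace A.hom
  have hlc : LocallyConnectedSpace A.left := Sga3C.LocConn.locallyConnectedSpace_of_isLocallyNoetherian _
  have key : ∀ x : A.left, IsClosed {x} → topologicalKrullDim A.left = (Order.coheight x : WithBot ℕ∞) := by
    intro x hx
    have : GrpObj (Over.mk A.hom) := inferInstanceAs (GrpObj A)
    rw [← Localalg.GrpDim.ringKrullDim_stalk A.hom x hx, ringKrullDim_stalk_eq_coheight]
  have ho : IsOpen (Set.range u.left) := by
    rw [hu]
    exact isOpen_connectedComponent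
  have h1 := Sga3C.DimTop.topologicalKrullDim_open_eq_of_closedPoints (Set.range u.left) ho
    (by rw [hu]; exact ⟨_, mem_connectedComponent⟩) (Order.coheight (pt η[A])) (fun x _ hx => by
      have h2 := key x hx
      rw [key _ (isClosed_pt η[A])] at h2
      exact (WithBot.coe_injective h2).symm)
  rw [key _ (isClosed_pt η[A]), ← h1]
  exact (IsHomeomorph.topologicalKrullDim_eq _ (u.left.isEmbedding.toHomeomorph).isHomeomorph)

/-- Properties of group schemes over fields. -/
abbrev Prp := ∀ (K : Type u) [Field K] (G : Over (Spec (CommRingCat.of K))) [GrpObj G], Prop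

/-- The properties to which the specialization arguments apply. -/
structure Good (P : Prp.{u}) (aff : Prop) : Prop where
  sub : ∀ (K : Type u) [Field K] [IsAlgClosed K] (G H : Over (Spec (CommRingCat.of K))) [GrpObj G] [GrpObj H]
    (i : H ⟶ G) [IsMonHom i] [IsClosedImmersion i.left], P K G → P K H
  spec : ∀ (R K k : Type u) [CommRing R] [IsDomain R] [Field K] [IsAlgClosed K] [Field k] [IsAlgClosed k]
    (φ : R →+* K) (ψ : R →+* k), Function.Injective φ →
    ∀ (G : Over (Spec (CommRingCat.of R))) [GrpObj G] [Flat G.hom] [LocallyOfFinitePresentation G.hom]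
      [QuasiCompact G.hom] [IsSeparated G.hom], (aff → IsAffine G.left) →
      Smooth (Red.bc (sp φ) G).hom → ConnectedSpace ↥(Red.bc (sp φ) G).left →
      P K (Red.bc (sp φ) G) → P k (Red.bc (sp ψ) G)

/-- The existence of a smooth connected closed subgroup with `P` of dimension at least `n`. -/
def Q (P : Prp.{u}) (aff : Prop) (n : ℕ) (K : Type u) [Field K] (G : Over (Spec (CommRingCat.of K)))
    [GrpObj G] : Prop :=
  ∃ (H : Over (Spec (CommRingCat.of K))) (_ : GrpObj H) (i : H ⟶ G), IsMonHom i ∧ IsClosedImmersion i.left ∧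
    Smooth H.hom ∧ (aff → IsAffine H.left) ∧ ConnectedSpace ↥H.left ∧ P K H ∧
    (n : WithBot ℕ∞) ≤ topologicalKrullDim ↥H.left

variable {P : Prp.{u}} {aff : Prop} {n : ℕ}

theorem Q.mono {K : Type u} [Field K] {G G' : Over (Spec (CommRingCat.of K))} [GrpObj G] [GrpObj G']
    (h : Q P aff n K G) (i : G ⟶ G') [IsMonHom i] [IsClosedImmersion i.left] : Q P aff n K G' := by
  obtain ⟨H, _, j, hj, hj', h1, h2, h3, h4, h5⟩ := h
  exact ⟨H, inferInstance, j ≫ i, inferInstance, by rw [Over.comp_left]; infer_instance, h1, h2, h3, h4, h5⟩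

theorem Q.iso {K : Type u} [Field K] {G G' : Over (Spec (CommRingCat.of K))} [GrpObj G] [GrpObj G']
    (h : Q P aff n K G) (e : Grp.mk G ≅ Grp.mk G') : Q P aff n K G' := by
  have h1 : IsIso (und e).hom.left := inferInstance
  exact h.mono (und e).hom

theorem q_of_dim (hP : Good P aff) {K : Type u} [Field K] [IsAlgClosed K] (G : Over (Spec (CommRingCat.of K)))
    [GrpObj G] [LocallyOfFiniteType G.hom] (ha : aff → IsAffine G.left) (hG : P K G)
    (hn : (n : WithBot ℕ∞) ≤ topologicalKrullDim ↥G.left) : Q P aff n K G := by
  obtain ⟨U, _, i, hi, hcl, hsm, hc, hr⟩ := Sga3B.RedIdComp.exists_redIdComp G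
  refine ⟨U, inferInstance, i, hi, hcl, hsm, fun h => ?_, hc, hP.sub K G U i hG, ?_⟩
  · have := ha h
    exact isAffine_of_isAffineHom i.left
  · rw [dim_neutral G U i hr]
    exact hn

/-- From the geometric generic fibre to all geometric fibres. -/
theorem q_of_domain (hP : Good P aff) {R K k : Type u} [CommRing R] [IsDomain R] [Field K] [IsAlgClosed K]
    [Field k] [IsAlgClosed k] (φ : R →+* K) (ψ : R →+* k) (hφ : Function.Injective φ)
    (G : Over (Spec (CommRingCat.of R))) [GrpObj G] [Flat G.hom] [LocallyOfFinitePresentation G.hom]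
    [QuasiCompact G.hom] [IsSeparated G.hom] (ha : aff → IsAffine G.left)
    (hsm : Smooth (Red.bc (sp φ) G).hom) (hconn : ConnectedSpace ↥(Red.bc (sp φ) G).left)
    (hPK : P K (Red.bc (sp φ) G)) (hn : (n : WithBot ℕ∞) ≤ topologicalKrullDim ↥(Red.bc (sp φ) G).left) : Q P aff n k (Red.bc (sp ψ) G) := by
  have hlft : LocallyOfFiniteType (Red.bc (sp ψ) G).hom :=
    inferInstanceAs (LocallyOfFiniteType (pullback.snd G.hom (sp ψ)))
  refine q_of_dim hP _ (fun h => ?_) (hP.spec R K k φ ψ hφ G ha hsm hconn hPK) ?_
  · have := ha h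
    exact inferInstanceAs (IsAffine (pullback G.hom (sp ψ)))
  · rwa [← Dim.dim_eq G (sp φ) (sp ψ) (Dim.specializes_of_injective φ hφ _)]

theorem exists_algHom {k B : Type u} [Field k] [IsAlgClosed k] [CommRing B] [Nontrivial B] [Algebra k B]
    [Algebra.FiniteType k B] : Nonempty (B →ₐ[k] k) := by
  obtain ⟨m, hm⟩ := Ideal.exists_maximal B
  let _ := Ideal.Quotient.field m
  have h1 : Module.Finite k (B ⧸ m) := finite_of_finite_type_of_isJacobsonRing _ _
  have h2 : Algebra.IsIntegral k (B ⧸ m) := inferInstance
  have h3 := IsAlgClosed.algebraMap_bijective_of_isIntegral (k := k) (K := B ⧸ m)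
  let e := AlgEquiv.ofBijective (Algebra.ofId k (B ⧸ m)) h3
  exact ⟨e.symm.toAlgHom.comp (Ideal.Quotient.mkₐ k m)⟩

end K412.Machine
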