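import Groth.Agent.AlgGrp.K412.Tower
import Groth.Agent.Sga3.H778.NeutralOpen
import Groth.Agent.Sga3C.GrpIrr
import Groth.Agent.S3036
import Groth.Prelude.Def_Red

/-!
# Neutral components of the geometric fibres
-/

set_option autoImplicit false
universe u

open CategoryTheory CategoryTheory.Limits AlgebraicGeometry MonObj MonoidalCategory
  CartesianMonoidalCategory GrpObj

namespace K412.Neut

open Groth.Agent

theorem connectedSpace_bc {S : Scheme.{u}} (G : Over S) [GrpObj G] [LocallyOfFiniteType G.hom]
    (hconn : ∀ s : S, _root_.IsConnected (G.hom.base ⁻¹' {s})) {K : Type u} [Field K]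
    (p : Spec (CommRingCat.of K) ⟶ S) : ConnectedSpace (Red.bc p G).left := by
  have : GrpObj (Over.mk G.hom) := inferInstanceAs (GrpObj G)
  have h1 : GeometricallyIrreducible G.hom :=
    Sga3C.GrpIrr.geometricallyIrreducible_of_connected_fibres G.hom hconn
  have h2 : IrreducibleSpace ↥(pullback G.hom p) :=
    GeometricallyIrreducible.irreducibleSpace_of_subsingleton (pullback.snd G.hom p)
  exact inferInstanceAs (ConnectedSpace ↥(pullback G.hom p))

section

variable {S : Scheme.{u}} [Nonempty S] {G C D : Over S} [GrpObj G] [GrpObj C] [GrpObj D]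

theorem range_eq (c : C ⟶ G) [IsMonHom c] [IsOpenImmersion c.left] [IsClosedImmersion c.left]
    [ConnectedSpace C.left] (s : S) :
    Set.range c.left = connectedComponent ((η[G] : 𝟙_ (Over S) ⟶ G).left s) := by
  have hmem : (η[G] : 𝟙_ (Over S) ⟶ G).left s ∈ Set.range c.left := by
    have h1 : (η[C] : 𝟙_ (Over S) ⟶ C) ≫ c = η[G] := IsMonHom.one_hom c
    refine ⟨(η[C] : 𝟙_ (Over S) ⟶ C).left s, ?_⟩
    rw [← h1, Over.comp_left, Scheme.Hom.comp_apply]
  apply Set.Subset.antisymm
  · exact (isPreconnected_range c.left.continuous).subset_connectedComponent hmem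
  · exact IsClopen.connectedComponent_subset
      ⟨c.left.isClosedEmbedding.isClosed_range, c.left.isOpenEmbedding.isOpen_range⟩ hmem

/-- The neutral component is unique. -/
theorem exists_iso (c : C ⟶ G) (d : D ⟶ G) [IsMonHom c] [IsMonHom d] [IsOpenImmersion c.left]
    [IsOpenImmersion d.left] [IsClosedImmersion c.left] [IsClosedImmersion d.left]
    [ConnectedSpace C.left] [ConnectedSpace D.left] : ∃ e : C ≅ D, e.hom ≫ d = c ∧ IsMonHom e.hom := by
  obtain ⟨s⟩ := ‹Nonempty S›
  have h1 : Set.range c.left = Set.range d.left := (range_eq c s).trans (range_eq d s).symm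
  let f := IsOpenImmersion.isoOfRangeEq c.left d.left h1
  have hf : f.hom ≫ d.left = c.left := IsOpenImmersion.isoOfRangeEq_hom_fac _ _ _
  let e : C ≅ D := Over.isoMk f (by rw [← Over.w d, reassoc_of% hf, Over.w c])
  have he : e.hom ≫ d = c := by
    ext1
    exact hf
  have hd : Mono d := (Over.forget _).mono_of_mono_map (inferInstanceAs (Mono d.left))
  have h2 : IsMonHom (e.hom ≫ d) := by rw [he]; infer_instance
  exact ⟨e, he, Sga3C.SubGrp.isMonHom_of_comp_mono e.hom d⟩

omit [Nonempty S] [GrpObj G] in
theorem isNormalHom_comp_iso {N : Over S} [GrpObj N] {i : N ⟶ C} (h : AlgGrp.IsNormalHom i) (e : C ≅ D)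
    [IsMonHom e.hom] : AlgGrp.IsNormalHom (i ≫ e.hom) := by
  intro T g n
  obtain ⟨n', hn'⟩ := h T (g ≫ e.inv) n
  refine ⟨n', ?_⟩
  have := congr($hn' ≫ e.hom)
  rw [MonObj.mul_comp, MonObj.mul_comp, GrpObj.inv_comp] at this
  simpa using this

omit [Nonempty S] [GrpObj G] in
theorem comm_comp_iso {N : Over S} {i : N ⟶ C}
    (h : ∀ (T : Over S) (g h : T ⟶ C), ∃ m : T ⟶ N, g * h * g⁻¹ * h⁻¹ = m ≫ i) (e : C ≅ D)
    [IsMonHom e.hom] (T : Over S) (g g' : T ⟶ D) : ∃ m : T ⟶ N, g * g' * g⁻¹ * g'⁻¹ = m ≫ i ≫ e.hom := by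
  obtain ⟨m, hm⟩ := h T (g ≫ e.inv) (g' ≫ e.inv)
  refine ⟨m, ?_⟩
  have := congr($hm ≫ e.hom)
  rw [MonObj.mul_comp, MonObj.mul_comp, MonObj.mul_comp, GrpObj.inv_comp, GrpObj.inv_comp] at this
  simpa using this

end

open Groth.Agent.Sga3.H778 NeutralPts NeutralOpen

/-- The geometric fibres of the open neutral component. -/
theorem exists_neutral {S : Scheme.{u}} (G : Over S) [GrpObj G] [Smooth G.hom] [QuasiSeparated G.hom] :
    ∃ (G0 : Over S) (_ : GrpObj G0) (i : G0 ⟶ G), IsMonHom i ∧ Smooth G0.hom ∧ QuasiCompact G0.hom ∧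
      QuasiSeparated G0.hom ∧ ∀ (K : Type u) [Field K] (p : Spec (CommRingCat.of K) ⟶ S),
        IsOpenImmersion ((Over.pullback p).map i).left ∧ IsClosedImmersion ((Over.pullback p).map i).left ∧
        ConnectedSpace (Red.bc p G0).left := by
  have hsm : Smooth ((⊤ : G.left.Opens).ι ≫ G.hom) := inferInstance
  have hopen := isOpen_neutralSet G ⊤ (fun _ => trivial)
  obtain ⟨hgrp, hmon⟩ := exists_grpObj G hopen
  have h1 : Smooth (opn G (neutral G hopen)).hom := smooth_neutral G ⊤ (fun _ => trivial) hopen
  have hc := isConnected_fibre G hopen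
  have h2 := Groth.Agent.S3025.result S (opn G (neutral G hopen)) hc
  have h2' := h2.2
  have h3 : QuasiSeparated (opn G (neutral G hopen)).hom := by
    have := h2.1
    infer_instance
  refine ⟨opn G (neutral G hopen), hgrp, opnι G (neutral G hopen), hmon, h1, h2.2, h3, fun K _ p => ?_⟩
  have ho : IsOpenImmersion ((Over.pullback p).map (opnι G (neutral G hopen))).left := by
    have h4 : ((Over.pullback p).map (opnι G (neutral G hopen))).left ≫ pullback.fst G.hom p =
      pullback.fst (opn G (neutral G hopen)).hom p ≫ (opnι G (neutral G hopen)).left := pullback.lift_fst _ _ _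
    have h5 : ((Over.pullback p).map (opnι G (neutral G hopen))).left ≫ pullback.snd G.hom p =
      pullback.snd (opn G (neutral G hopen)).hom p := pullback.lift_snd _ _ _
    have h8 : IsPullback ((Over.pullback p).map (opnι G (neutral G hopen))).left
        (pullback.fst (opn G (neutral G hopen)).hom p) (pullback.fst G.hom p) (opnι G (neutral G hopen)).left := by
      refine IsPullback.of_right ?_ h4 (IsPullback.of_hasPullback G.hom p).flip
      rw [h5, Over.w]
      exact (IsPullback.of_hasPullback _ p).flip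
    exact MorphismProperty.of_isPullback h8.flip inferInstance
  have i1 : LocallyOfFiniteType (Red.bc p G).hom :=
    inferInstanceAs (LocallyOfFiniteType (pullback.snd G.hom p))
  have i2 : LocallyOfFiniteType (Red.bc p (opn G (neutral G hopen))).hom :=
    inferInstanceAs (LocallyOfFiniteType (pullback.snd (opn G (neutral G hopen)).hom p))
  have i3 : QuasiCompact (Red.bc p (opn G (neutral G hopen))).hom :=
    inferInstanceAs (QuasiCompact (pullback.snd (opn G (neutral G hopen)).hom p))
  have i4 : IsLocallyNoetherian (Red.bc p (opn G (neutral G hopen))).left :=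
    LocallyOfFiniteType.isLocallyNoetherian (Red.bc p (opn G (neutral G hopen))).hom
  have i5 : CompactSpace (Red.bc p (opn G (neutral G hopen))).left :=
    QuasiCompact.compactSpace_of_compactSpace (Red.bc p (opn G (neutral G hopen))).hom
  have i6 : IsNoetherian (Red.bc p (opn G (neutral G hopen))).left := ⟨⟩
  have i7 : Mono ((Over.pullback p).map (opnι G (neutral G hopen))) := inferInstance
  have i8 : QuasiCompact ((Over.pullback p).map (opnι G (neutral G hopen))).left := inferInstance
  exact ⟨ho, Groth.Agent.S3036.result K _ _ ((Over.pullback p).map (opnι G (neutral G hopen))),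
    connectedSpace_bc _ hc p⟩

end K412.Neut
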