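import Groth.Agent.AlgGrp.K411.IsogUnip
import Groth.Agent.AlgGrp.K398.Pts
import Groth.Agent.AlgGrp.K402.Quo
import Groth.Agent.Sga3.H807.TorRed
import Groth.Agent.Sga3B.TorusBc
import Groth.Agent.Sga3.H784.ImgTorus
import Groth.Agent.Sga3B.AlgBc2
import Groth.Agent.AlgGrp.K402.Tori
import Groth.Agent.AlgGrp.K395.CovKit

/-!
# Homomorphisms from groups without subtori to tori are trivial
-/

set_option autoImplicit false
universe u

open CategoryTheory CategoryTheory.Limits AlgebraicGeometry MonObj MonoidalCategory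
  CartesianMonoidalCategory GrpObj

namespace K412.UnipTorus

open Groth.Agent

section ac

variable {K : Type u} [Field K] [IsAlgClosed K]

/-- A homomorphism from a smooth connected affine group without subtori to a torus is trivial. -/
theorem hom_torus_eq_one {U T : Over (Spec (CommRingCat.of K))} [GrpObj U] [GrpObj T] [IsAffine U.left]
    [Smooth U.hom] [ConnectedSpace U.left] (hU : Red.HasNoSubtorus K U) (hT : Red.IsTorus T) (f : U ⟶ T)
    [IsMonHom f] : f = 1 := by
  have hTa : IsAffineHom T.hom := Sga3B.TorusAlgClosed.isAffineHom_of_isTorus hT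
  have hTs : Smooth T.hom := Sga3B.TorusAlgClosed.smooth_of_isTorus hT
  have hTaff : IsAffine T.left := isAffine_of_isAffineHom T.hom
  obtain ⟨C, _, p, i, hp, hi, hpi, h1, h2, h3, h4⟩ := K398.Pts.exists_image f
  have hCl : LocallyOfFiniteType C.hom := by rw [← Over.w i]; infer_instance
  have hCs : Smooth C.hom := K398.Pts.smooth_of_flat_surjective p
  have hCc : ConnectedSpace C.left := K398.Pts.connectedSpace_of_surjective p
  have hCa : IsAffine C.left := isAffine_of_isAffineHom i.left
  have h5 : Red.IsTorus C := Sga3.H807.TorRed.isTorus_of_closed hT i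
  have h6 := AlgGrp.K411.IsogUnip.hasNoSubtorus_of_surjective p hU C (𝟙 C) h5
  rw [← hpi]
  exact AlgGrp.K411.IsogUnip.eq_one_of_isTrivialGrp h6 p i

end ac

variable {k : Type u} [Field k]

theorem connectedSpace_of_geom {U : Over (Spec (CommRingCat.of k))}
    (h : ∀ s : Spec (CommRingCat.of k), ConnectedSpace (Red.geomFibre s U).left) : ConnectedSpace U.left := by
  let s : Spec (CommRingCat.of k) := IsLocalRing.closedPoint k
  exact K402.Quo.connectedSpace_of_bc (Red.geomPt s) (h s)

/-- A homomorphism from a smooth affine geometrically connected group which is geometrically without subtori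
to a torus is trivial. -/
theorem hom_torus_eq_one' {U T : Over (Spec (CommRingCat.of k))} [GrpObj U] [GrpObj T] [IsAffine U.left]
    [Smooth U.hom]
    (hU : ∀ s : Spec (CommRingCat.of k), ConnectedSpace (Red.geomFibre s U).left ∧
      Red.HasNoSubtorus (AlgebraicClosure ((Spec (CommRingCat.of k)).residueField s)) (Red.geomFibre s U))
    (hT : Red.IsTorus T) (f : U ⟶ T) [IsMonHom f] : f = 1 := by
  let s : Spec (CommRingCat.of k) := IsLocalRing.closedPoint k
  have h1 : IsAffine (Red.geomFibre s U).left := inferInstanceAs (IsAffine (pullback U.hom (Red.geomPt s)))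
  have h2 : Smooth (Red.geomFibre s U).hom := inferInstanceAs (Smooth (pullback.snd U.hom (Red.geomPt s)))
  have h3 := (hU s).1
  apply (Over.pullback (Red.geomPt s)).map_injective
  rw [hom_torus_eq_one (hU s).2 (Sga3B.TorusBc.isTorus_bc (Red.geomPt s) hT) ((Over.pullback (Red.geomPt s)).map f),
    Functor.map_one]

/-- A quotient of a torus is a torus. -/
theorem isTorus_of_cov {T Q : Over (Spec (CommRingCat.of k))} [GrpObj T] [GrpObj Q] (hT : Red.IsTorus T)
    [LocallyOfFiniteType Q.hom] (p : T ⟶ Q) [IsMonHom p] [Surjective p.left] [Flat p.left] : Red.IsTorus Q := by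
  have hTa : IsAffineHom T.hom := Sga3B.TorusAlgClosed.isAffineHom_of_isTorus hT
  have hTs : Smooth T.hom := Sga3B.TorusAlgClosed.smooth_of_isTorus hT
  have hcov : Sga3.H739.Fpqc.Cov p := K395.CovKit.cov_of p
  let f : Spec (CommRingCat.of (AlgebraicClosure k)) ⟶ Spec (CommRingCat.of k) :=
    Spec.map (CommRingCat.ofHom (algebraMap k (AlgebraicClosure k)))
  have hTK := Sga3B.TorusBc.isTorus_bc f hT
  have i1 : LocallyOfFiniteType (Red.bc f Q).hom := inferInstanceAs (LocallyOfFiniteType (pullback.snd Q.hom f))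
  have i2 : QuasiCompact (Red.bc f T).hom := inferInstanceAs (QuasiCompact (pullback.snd T.hom f))
  have hsq := Sga3B.Parab.EtHom.isPullback_map f p
  have i3 : Surjective ((Over.pullback f).map p).left := MorphismProperty.of_isPullback hsq ‹_›
  have i4 : Flat ((Over.pullback f).map p).left := MorphismProperty.of_isPullback hsq ‹_›
  have hcov' : Sga3.H739.Fpqc.Cov ((Over.pullback f).map p) := K395.CovKit.cov_of _
  obtain ⟨Q', _, p', j, h1, h2, h3, h4, h5, h6, h7⟩ :=
    Sga3.H784.ImgTorus.exists_image_torus ((Over.pullback f).map p) hTK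
  have hQ's : Smooth Q'.hom := Sga3B.TorusAlgClosed.smooth_of_isTorus h1
  have hc1 : Sga3.H739.Fpqc.Cov p' := K395.CovKit.cov_of p'
  have hc2 : Sga3.H739.Fpqc.Cov j := hc1.of_comp (by rw [h7]; exact hcov')
  obtain ⟨l, hl⟩ := hc2.exists_lift_of_mono j (𝟙 _) (𝟙 _) (by simp)
  have hj : IsIso j := ⟨l, by rw [← cancel_mono j, Category.assoc, hl, Category.comp_id, Category.id_comp], hl⟩
  have hjm : IsMonHom (asIso j).hom := h3
  have hQK : Red.IsTorus (Red.bc f Q) := Sga3B.TorusBc.isTorus_of_iso (K402.Tori.grpIso (asIso j)) h1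
  exact Sga3B.AlgBc.isTorus_of_bc f (fun V hV => ⟨f ⁻¹ᵁ V,
    (QuasiCompact.isCompact_preimage (f := f) (V : Set ↥(Spec (CommRingCat.of k))) V.2 hV.isCompact :),
    Set.image_preimage_eq _ f.surjective⟩) hQK

/-- A smooth connected closed subgroup of a torus is a torus. -/
theorem isTorus_of_closed {T U : Over (Spec (CommRingCat.of k))} [GrpObj T] [GrpObj U] (hT : Red.IsTorus T)
    (i : U ⟶ T) [IsMonHom i] [IsClosedImmersion i.left] [Smooth U.hom] [ConnectedSpace U.left] :
    Red.IsTorus U := by
  let f : Spec (CommRingCat.of (AlgebraicClosure k)) ⟶ Spec (CommRingCat.of k) :=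
    Spec.map (CommRingCat.ofHom (algebraMap k (AlgebraicClosure k)))
  have hTK := Sga3B.TorusBc.isTorus_bc f hT
  have hsq := Sga3B.Parab.EtHom.isPullback_map f i
  have i1 : IsClosedImmersion ((Over.pullback f).map i).left := MorphismProperty.of_isPullback hsq ‹_›
  have i2 : Smooth (Red.bc f U).hom := inferInstanceAs (Smooth (pullback.snd U.hom f))
  have i3 : ConnectedSpace (Red.bc f U).left := K402.Quo.connectedSpace_bc f U
  have h : Red.IsTorus (Red.bc f U) := Sga3.H807.TorRed.isTorus_of_closed hTK ((Over.pullback f).map i)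
  exact Sga3B.AlgBc.isTorus_of_bc f (fun V hV => ⟨f ⁻¹ᵁ V,
    (QuasiCompact.isCompact_preimage (f := f) (V : Set ↥(Spec (CommRingCat.of k))) V.2 hV.isCompact :),
    Set.image_preimage_eq _ f.surjective⟩) h

end K412.UnipTorus
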