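import Groth.Agent.AlgGrp.K412.Gug
import Groth.Agent.AlgGrp.K412.UnipTorus
import Groth.Agent.S3972
import Groth.Agent.S4141
import Groth.Agent.S8093

/-!
# The smallest normal subgroup with semi-abelian quotient
-/

set_option autoImplicit false
universe u

open CategoryTheory CategoryTheory.Limits AlgebraicGeometry MonObj MonoidalCategory
  CartesianMonoidalCategory GrpObj

namespace K412.SemiAbQuot

open Groth.Agent Groth.Agent.Sga3.H739.Fpqc Groth.Agent.Sga3B

/-- A morphism whose composition with a covering homomorphism is a homomorphism is a homomorphism. -/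
theorem isMonHom_desc {S : Scheme.{u}} {G Q H : Over S} [GrpObj G] [GrpObj Q] [GrpObj H] (q : G ⟶ Q) [IsMonHom q]
    (hq : Cov q) (f : Q ⟶ H) (h : IsMonHom (q ≫ f)) : IsMonHom f := by
  refine K395.Pts.isMonHom_of_pts f fun T x y => ?_
  obtain ⟨T₁, t₁, a, ht₁, ha⟩ := hq.exists_local x
  obtain ⟨T₂, t₂, b, ht₂, hb⟩ := hq.exists_local (t₁ ≫ y)
  have e1 : (t₂ ≫ t₁) ≫ x = (t₂ ≫ a) ≫ q := by rw [Category.assoc, ← ha, Category.assoc]
  have e2 : (t₂ ≫ t₁) ≫ y = b ≫ q := by rw [Category.assoc, ← hb]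
  apply (ht₂.comp ht₁).cancel
  rw [← Category.assoc, MonObj.comp_mul, e1, e2, ← MonObj.mul_comp, Category.assoc, MonObj.mul_comp,
    MonObj.comp_mul, ← Category.assoc (t₂ ≫ t₁) x, ← Category.assoc (t₂ ≫ t₁) y, e1, e2]
  simp only [Category.assoc]

variable (k : Type u) [Field k]

/-- The semi-abelian condition of the statements. -/
def SA (Q : Over (Spec (CommRingCat.of k))) [GrpObj Q] : Prop :=
  ∃ (T : Over (Spec (CommRingCat.of k))) (_ : GrpObj T) (t : T ⟶ Q) (A : Over (Spec (CommRingCat.of k))) (_ : GrpObj A) (p : Q ⟶ A),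
        IsMonHom t ∧ IsClosedImmersion t.left ∧ Red.IsTorus T ∧ IsMonHom p ∧ Surjective p.left ∧ Flat p.left ∧
        AlgGrp.IsKernel t p ∧ IsProper A.hom ∧ Smooth A.hom ∧ ConnectedSpace ↥A.left

/-- A commutative quotient of `G` killing the unipotent radical of the affine part is semi-abelian. -/
theorem sa_of_quotient [PerfectField k]
    (G : Over (Spec (CommRingCat.of k))) [GrpObj G] [Smooth G.hom] [QuasiCompact G.hom] [ConnectedSpace ↥G.left]
    (N : Over (Spec (CommRingCat.of k))) [GrpObj N] (i : N ⟶ G) [IsMonHom i] [IsClosedImmersion i.left]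
    [Smooth N.hom] [IsAffine N.left] [ConnectedSpace ↥N.left]
    (hNmax : ∀ (N₁ : Over (Spec (CommRingCat.of k))) [GrpObj N₁] (i₁ : N₁ ⟶ G) [IsMonHom i₁] [IsClosedImmersion i₁.left],
      Smooth N₁.hom → IsAffine N₁.left → ConnectedSpace ↥N₁.left → ∃ f : N₁ ⟶ N, f ≫ i = i₁)
    (R : Over (Spec (CommRingCat.of k))) [GrpObj R] (u : R ⟶ N) (hR : Par.IsUnipotentRadical u)
    (Q : Over (Spec (CommRingCat.of k))) [GrpObj Q] (q : G ⟶ Q) [IsMonHom q] [Surjective q.left] [Flat q.left]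
    [Smooth Q.hom] [QuasiCompact Q.hom] [ConnectedSpace ↥Q.left]
    (hcomm : ∀ (T : Over (Spec (CommRingCat.of k))) (a b : T ⟶ Q), a * b = b * a)
    (hu : u ≫ i ≫ q = 1) : SA k Q := by
  have h1 := hR.1
  have h2 : IsClosedImmersion u.left := hR.2.1
  have h3 : AlgGrp.IsNormalHom u := hR.2.2.1
  obtain ⟨M, _, qM, m1, s1, f1, k1, l1, c1, sm1⟩ := K402.Quo.exists_quotient u h3
  have hM : Smooth M.hom := sm1 inferInstance
  have hMr : Red.IsReductive M := S8093.result k N R u hR M qM k1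
  have hMa : IsAffineHom M.hom := hMr.1
  obtain ⟨ψ, hψ, hψ'⟩ := K402.Quo.exists_desc u qM k1 (i ≫ q) hu
  obtain ⟨C, _, f₀, DM, _, dM, g1, g2, g3, g4, -, -, -, -, -, g5, -⟩ := S3972.result M hMr
  obtain ⟨f', hf', -⟩ := g5 Q ψ hcomm
  have hCa : IsAffineHom C.hom := TorusAlgClosed.isAffineHom_of_isTorus g2
  have hCs : Smooth C.hom := TorusAlgClosed.smooth_of_isTorus g2
  have hcovf : Cov f₀ := K395.CovKit.cov_of f₀
  have hf'm : IsMonHom f' := isMonHom_desc f₀ hcovf f' (by rw [hf']; exact hψ)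
  obtain ⟨T, _, p, t, hp, ht, hpt, fp, sp, lp, hcl⟩ := K398.Pts.exists_image f'
  have hsep : IsSeparated Q.hom := Books.AntiAffine.isSeparated_hom Q
  have htm : Mono t := Books.AlgPtsGrp.mono_of_isClosedImmersion t
  have hTl : LocallyOfFiniteType T.hom := by rw [← Over.w t]; infer_instance
  have hT : Red.IsTorus T := UnipTorus.isTorus_of_cov g2 p
  have htn : AlgGrp.IsNormalHom t := fun T g n => ⟨n, by rw [hcomm T g, mul_inv_cancel_right]⟩
  obtain ⟨A', _, qA, m2, s2, f2, k2, l2, c2, sm2⟩ := K402.Quo.exists_quotient t htn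
  have hA's : Smooth A'.hom := sm2 inferInstance
  have hA'c : ConnectedSpace A'.left := K402.Quo.connected_of_surjective qA
  have hA'sep : IsSeparated A'.hom := Books.AntiAffine.isSeparated_hom A'
  -- properness
  obtain ⟨L, _, l, A, _, π, b1, b2, b3, b4, b5, b6, b7, b8, b9, b10, b11, b12, b13, -⟩ :=
    S4141.result k G
  obtain ⟨a, ha⟩ := hNmax L l b4 b3 b5
  have hiq : (i ≫ q) ≫ qA = 1 := by
    have h4 : t ≫ qA = 1 := by
      have := K395.Pts.comp_eq_one k2 (𝟙 T)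
      rwa [Category.id_comp] at this
    rw [← hψ', ← hf', ← hpt]
    simp only [Category.assoc]
    rw [h4, MonObj.comp_one, MonObj.comp_one, MonObj.comp_one]
  have hl : l ≫ q ≫ qA = 1 := by
    rw [← ha, Category.assoc, ← Category.assoc i, hiq, MonObj.comp_one]
  obtain ⟨χ, hχ, hχ'⟩ := K402.Quo.exists_desc l π b10 (q ≫ qA) hl
  have hχs : Surjective χ.left := by
    have h5 : Surjective (q ≫ qA).left := by rw [Over.comp_left]; infer_instance
    rw [← hχ', Over.comp_left] at h5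
    exact Surjective.of_comp π.left χ.left
  have hA'p : IsProper A'.hom := K398.Pts.isProper_of_surjective χ
  exact ⟨T, inferInstance, t, A', inferInstance, qA, ht, hcl, hT, m2, s2, f2, k2, hA'p, hA's, hA'c⟩

theorem range_eq [PerfectField k]
    (G : Over (Spec (CommRingCat.of k))) [GrpObj G] [Smooth G.hom] [QuasiCompact G.hom] [ConnectedSpace ↥G.left]
    (N : Over (Spec (CommRingCat.of k))) [GrpObj N] (i : N ⟶ G) [IsMonHom i] [IsClosedImmersion i.left]
    [Smooth N.hom] [IsAffine N.left] [ConnectedSpace ↥N.left]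
    (hNmax : ∀ (N₁ : Over (Spec (CommRingCat.of k))) [GrpObj N₁] (i₁ : N₁ ⟶ G) [IsMonHom i₁] [IsClosedImmersion i₁.left],
      Smooth N₁.hom → IsAffine N₁.left → ConnectedSpace ↥N₁.left → ∃ f : N₁ ⟶ N, f ≫ i = i₁)
    (R : Over (Spec (CommRingCat.of k))) [GrpObj R] (u : R ⟶ N) (hR : Par.IsUnipotentRadical u)
    (D : Over (Spec (CommRingCat.of k))) [GrpObj D] (d : D ⟶ G) [IsMonHom d] [IsClosedImmersion d.left] (hDn : AlgGrp.IsNormalHom d)
    (hD : ∀ (T : Over (Spec (CommRingCat.of k))) (g g' : T ⟶ G), ∃ m : T ⟶ D, g * g' * g⁻¹ * g'⁻¹ = m ≫ d)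
    (hDmin : ∀ (D' : Over (Spec (CommRingCat.of k))) [GrpObj D'] (d' : D' ⟶ G) [IsMonHom d'] [IsClosedImmersion d'.left],
      AlgGrp.IsNormalHom d' → (∀ (T : Over (Spec (CommRingCat.of k))) (g g' : T ⟶ G), ∃ m : T ⟶ D', g * g' * g⁻¹ * g'⁻¹ = m ≫ d') →
      ∃ f : D ⟶ D', f ≫ d' = d)
    (H : Over (Spec (CommRingCat.of k))) [GrpObj H] (h : H ⟶ G) [IsMonHom h] [IsClosedImmersion h.left]
    [Smooth H.hom] [ConnectedSpace ↥H.left] (hHn : AlgGrp.IsNormalHom h)
    (Q : Over (Spec (CommRingCat.of k))) [GrpObj Q] (qH : G ⟶ Q) [IsMonHom qH] [Surjective qH.left] [Flat qH.left]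
    (hHker : AlgGrp.IsKernel h qH) (hQ : SA k Q)
    (hHmin : ∀ (H' : Over (Spec (CommRingCat.of k))) [GrpObj H'] (h' : H' ⟶ G) [IsMonHom h'] [IsClosedImmersion h'.left]
        (Q' : Over (Spec (CommRingCat.of k))) [GrpObj Q'] (q' : G ⟶ Q') [IsMonHom q'] [Surjective q'.left] [Flat q'.left],
        AlgGrp.IsNormalHom h' → Smooth H'.hom → ConnectedSpace ↥H'.left → AlgGrp.IsKernel h' q' → SA k Q' →
        ∃ f : H ⟶ H', f ≫ h' = h) :
    Set.range ⇑h.left.base = Set.range ⇑(((u ≫ i) ⊗ₘ d) ≫ μ[G]).left.base := by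
  obtain ⟨h1, h2, h3, h4, h5, h6, -⟩ := id hR
  obtain ⟨hDs, hDc⟩ := Gug.smooth_derived d hD hDmin
  have hRc : ConnectedSpace R.left := UnipTorus.connectedSpace_of_geom fun s => (h6 s).1
  have hRa : IsAffine R.left := isAffine_of_isAffineHom u.left
  have hum : IsMonHom (u ≫ i) := inferInstance
  apply subset_antisymm
  · obtain ⟨E, _, e, Q', _, q, e1, e2, e3, e4, e5, e6, e7, e8, e9, e10, e11, e12, e13, e14, e15⟩ :=
      Gug.exists_sub d hDn hD (u ≫ i)
    have hSA : SA k Q' := sa_of_quotient k G N i hNmax R u hR Q' q e13 (by rw [← Category.assoc]; exact e14)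
    obtain ⟨f, hf⟩ := hHmin E e Q' q e5 e3 e4 e9 hSA
    refine subset_trans ?_ e15
    rw [← hf]
    rintro _ ⟨x, rfl⟩
    exact ⟨f.left x, rfl⟩
  · have hQq : QuasiCompact Q.hom := K402.Quo.quasiCompact_of_surjective qH
    have hQc : IsCommMonObj Q := K402.Comm.isCommMonObj hQ
    obtain ⟨a, ha⟩ := hDmin H h hHn (fun T x y => by
      obtain ⟨n, hn⟩ := K395.Pts.exists_of_comp_eq_one hHker (x * y * x⁻¹ * y⁻¹) (by
        rw [MonObj.mul_comp, MonObj.mul_comp, MonObj.mul_comp, GrpObj.inv_comp, GrpObj.inv_comp,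
          _root_.mul_comm (x ≫ qH) (y ≫ qH), mul_inv_cancel_right, mul_inv_cancel])
      exact ⟨n, hn.symm⟩)
    obtain ⟨T, _, t, A, _, p, c1, c2, c3, c4, c5, c6, c7, c8, c9, c10⟩ := hQ
    have hRh : (u ≫ i) ≫ qH = 1 := by
      obtain ⟨b, hb⟩ := Sga3.H821.AffProper.exists_factor_kernel k ((u ≫ i) ≫ qH) t p c7
      have htm : Mono t := Books.AlgPtsGrp.mono_of_isClosedImmersion t
      have hbm : IsMonHom b := by
        have : IsMonHom (b ≫ t) := by rw [hb]; infer_instance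
        exact Sga3C.SubGrp.isMonHom_of_comp_mono b t
      rw [← hb, UnipTorus.hom_torus_eq_one' h6 c3 b, MonObj.one_comp]
    obtain ⟨r, hr⟩ := K395.Pts.exists_of_comp_eq_one hHker (u ≫ i) hRh
    have hfac : ((u ≫ i) ⊗ₘ d) ≫ μ[G] = ((r ⊗ₘ a) ≫ μ[H]) ≫ h := by
      rw [Category.assoc, IsMonHom.mul_hom, ← Category.assoc, tensorHom_comp_tensorHom, hr, ha]
    rw [hfac]
    rintro _ ⟨x, rfl⟩
    exact ⟨((r ⊗ₘ a) ≫ μ[H]).left x, rfl⟩

end K412.SemiAbQuot
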