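import Groth.Agent.Neron.K491.MultRed
import Groth.Agent.Sga3.H827.ImgTorus
import Groth.Agent.Sga3.H786.TCAff
import Groth.Agent.AlgGrp.K395.Pts
import Groth.Agent.S3919
import Groth.Agent.AlgGrp.K402.Tori
import Groth.Agent.AlgGrp.K398.Pts

/-!
# Products of tori over a field; a central torus lies in every maximal torus

* `isTorus_prod`: the product of two tori over a field is a torus;
* `exists_factor`: `R` smooth affine over a field, `T` a maximal torus, `c : C ⟶ R` a homomorphism from a torus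
  whose values commute with those of `T`: then `c` factors through `T`.
-/

set_option autoImplicit false
universe u
open CategoryTheory Limits MonoidalCategory CartesianMonoidalCategory MonObj GrpObj AlgebraicGeometry
open Groth.Agent

namespace K412.TorProd

variable {k : Type u} [Field k]

theorem isTorus_prod {T₁ T₂ : Over (Spec (CommRingCat.of k))} [GrpObj T₁] [GrpObj T₂]
    (h1 : Red.IsTorus T₁) (h2 : Red.IsTorus T₂) : Red.IsTorus (T₁ ⊗ T₂) := by
  let K : Type u := AlgebraicClosure k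
  let f : Spec (CommRingCat.of K) ⟶ Spec (CommRingCat.of k) := Spec.map (CommRingCat.ofHom (algebraMap k K))
  have h3 : Red.IsTorus (Red.bc f T₁ ⊗ Red.bc f T₂) :=
    K491.MultRed.isTorus_prod (Sga3B.TorusBc.isTorus_bc f h1) (Sga3B.TorusBc.isTorus_bc f h2)
  have i1 : Flat f := inferInstance
  have i2 : Surjective f := ⟨fun x => ⟨Nonempty.some inferInstance, Subsingleton.elim _ _⟩⟩
  refine Sga3.H786.TCAff.isTorus_of_bc f ?_
  let e : Red.bc f T₁ ⊗ Red.bc f T₂ ≅ Red.bc f (T₁ ⊗ T₂) := Functor.Monoidal.μIso (Over.pullback f) T₁ T₂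
  have he1 : e.hom ≫ (Over.pullback f).map (fst T₁ T₂) = fst _ _ := by simp [e]
  have he2 : e.hom ≫ (Over.pullback f).map (snd T₁ T₂) = snd _ _ := by simp [e]
  have he : IsMonHom e.hom := by
    refine K395.Pts.isMonHom_of_pts e.hom fun T x y => ?_
    apply K491.MultRed.map_hom_ext (Over.pullback f)
    · rw [Category.assoc, he1, MonObj.mul_comp]
      refine Eq.trans ?_ (MonObj.mul_comp _ _ _).symm
      rw [Category.assoc, Category.assoc]
      erw [he1]
    · rw [Category.assoc, he2, MonObj.mul_comp]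
      refine Eq.trans ?_ (MonObj.mul_comp _ _ _).symm
      rw [Category.assoc, Category.assoc]
      erw [he2]
  exact Sga3B.TorusBc.isTorus_of_iso (Grp.mkIso' e) h3

theorem exists_factor {R T C : Over (Spec (CommRingCat.of k))} [GrpObj R] [GrpObj T] [GrpObj C]
    [IsAffine R.left] [Smooth R.hom] (t : T ⟶ R) (hT : Red.IsMaximalTorus t) (hC : Red.IsTorus C) (c : C ⟶ R)
    [IsMonHom c] (hc : ∀ (X : Over (Spec (CommRingCat.of k))) (x : X ⟶ C) (y : X ⟶ T),
      (x ≫ c) * (y ≫ t) = (y ≫ t) * (x ≫ c)) : ∃ s : C ⟶ T, s ≫ t = c := by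
  have htm := hT.1
  have htmo := hT.2.1
  have hTt := hT.2.2.1
  have hmax := (Groth.Agent.S3919.result k R T t hTt).mpr hT
  let Φ : T ⊗ C ⟶ R := (fst T C ≫ t) * (snd T C ≫ c)
  have hΦ : IsMonHom Φ := by
    refine K395.Pts.isMonHom_of_pts Φ fun X x y => ?_
    simp only [Φ, MonObj.comp_mul, MonObj.mul_comp, ← Category.assoc]
    have e3 := hc X (x ≫ snd T C) (y ≫ fst T C)
    rw [_root_.mul_assoc, _root_.mul_assoc, ← _root_.mul_assoc ((x ≫ snd T C) ≫ c), e3]
    simp only [_root_.mul_assoc]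
  have hsep : IsSeparated R.hom := Books.AntiAffine.isSeparated_hom R
  obtain ⟨Q, _, p, i, h1, h2, h3, h4, h5, h6, h7, h8⟩ :=
    Sga3.H827.ImgTorus.exists_image_torus Φ (isTorus_prod hTt hC)
  have h9 : lift (𝟙 T) 1 ≫ p ≫ i = t := by
    rw [h3]
    simp only [Φ, MonObj.comp_mul, ← Category.assoc, lift_fst, lift_snd]
    rw [Category.id_comp, MonObj.one_comp, _root_.mul_one]
  have h10 : IsIso (lift (𝟙 T) 1 ≫ p) := hmax.2.2.2 Q i (lift (𝟙 T) 1 ≫ p) h8 (by rw [Category.assoc, h9])
  refine ⟨lift 1 (𝟙 C) ≫ p ≫ inv (lift (𝟙 T) 1 ≫ p), ?_⟩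
  have h11 : inv (lift (𝟙 T) 1 ≫ p) ≫ t = i := by
    rw [IsIso.inv_comp_eq, Category.assoc, h9]
  rw [Category.assoc, Category.assoc, h11, h3]
  simp only [Φ, MonObj.comp_mul, ← Category.assoc, lift_fst, lift_snd]
  rw [Category.id_comp, MonObj.one_comp, _root_.one_mul]

end K412.TorProd
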